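import Mathlib
import Cfsg.Agent.Lib.ExactCover.Std
import Cfsg.Agent.Lib.CosetEnum.HJC1920.Enum

/-!
# Uniqueness of the Hall-Janko group: words in `a, t, q, r`

The relators of the centraliser of `z` hold as soon as a few group identities do.

Owner: helper99.
-/

set_option autoImplicit false
set_option linter.style.haveILetI false

namespace Cfsg.Agent.Lib.HJUniq

open Cfsg.Agent.Lib.CosetEnum

variable {G : Type*} [Group G]

/-- The values of the letters. -/
def lett (a t q r : G) : ℕ → G
  | 0 => a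
  | 1 => a⁻¹
  | 2 => t
  | 3 => t⁻¹
  | 4 => q
  | 5 => q⁻¹
  | 6 => r
  | _ => r⁻¹

/-- The value of a word. -/
def ev (φ : ℕ → G) (l : List ℕ) : G := (l.map φ).prod

theorem ev_nil (φ : ℕ → G) : ev φ [] = 1 := rfl

theorem ev_cons (φ : ℕ → G) (g : ℕ) (l : List ℕ) : ev φ (g :: l) = φ g * ev φ l := by
  simp [ev]

theorem ev_append (φ : ℕ → G) (l l' : List ℕ) : ev φ (l ++ l') = ev φ l * ev φ l' := by
  simp [ev]

theorem ev_replicate (φ : ℕ → G) (n g : ℕ) : ev φ (List.replicate n g) = φ g ^ n := by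
  simp [ev, List.map_replicate, List.prod_replicate]

theorem ev_congr {φ ψ : ℕ → G} {l : List ℕ} (h : ∀ g ∈ l, φ g = ψ g) : ev φ l = ev ψ l := by
  rw [ev, ev, List.map_congr_left h]

theorem ev_lett_congr (a t q r r' : G) {l : List ℕ} (h : ∀ g ∈ l, g < 6) :
    ev (lett a t q r) l = ev (lett a t q r') l :=
  ev_congr fun g hg => by
    have := h g hg
    interval_cases g <;> rfl

/-- The two letters cancel. -/
def cancels (x y : ℕ) : Bool :=
  (x == 0 && y == 1) || (x == 1 && y == 0) || (x == 2 && y == 2) || (x == 4 && y == 4)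

/-- Push a letter on a reduced reversed word. -/
def push : List ℕ → ℕ → List ℕ
  | [], x => [x]
  | y :: o, x => if cancels y x then o else x :: y :: o

/-- Reduction of words. -/
def red (l : List ℕ) : List ℕ := (l.foldl push []).reverse

theorem ev_push {a t q r : G} (ht : t * t = 1) (hq : q * q = 1) (o : List ℕ) (x : ℕ) :
    ev (lett a t q r) (push o x).reverse = ev (lett a t q r) o.reverse * lett a t q r x := by
  cases o with
  | nil => simp [push, ev]
  | cons y o =>
    simp only [push]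
    split_ifs with h
    · simp only [cancels, Bool.or_eq_true, Bool.and_eq_true, beq_iff_eq] at h
      rw [List.reverse_cons, ev_append, ev_cons, ev_nil, mul_one, mul_assoc]
      rcases h with ((⟨rfl, rfl⟩ | ⟨rfl, rfl⟩) | ⟨rfl, rfl⟩) | ⟨rfl, rfl⟩ <;>
        simp [lett, ht, hq]
    · rw [List.reverse_cons, ev_append, ev_cons, ev_nil, mul_one]

theorem ev_foldl {a t q r : G} (ht : t * t = 1) (hq : q * q = 1) (l : List ℕ) : ∀ o : List ℕ,
    ev (lett a t q r) (l.foldl push o).reverse =
      ev (lett a t q r) o.reverse * ev (lett a t q r) l := by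
  induction l with
  | nil => intro o; simp [ev]
  | cons x l ih => intro o; rw [List.foldl_cons, ih, ev_push ht hq, ev_cons, mul_assoc]

theorem ev_red {a t q r : G} (ht : t * t = 1) (hq : q * q = 1) (l : List ℕ) :
    ev (lett a t q r) (red l) = ev (lett a t q r) l := by
  rw [red, ev_foldl ht hq, List.reverse_nil, ev_nil, one_mul]

/-- The five points. -/
def pt (a q : G) (i : ℕ) : G := a ^ i * q * (a ^ i)⁻¹

/-- The word of a point. -/
def qw (i : ℕ) : List ℕ := List.replicate i 0 ++ [4] ++ List.replicate i 1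

theorem ev_qw (a t q r : G) (i : ℕ) : ev (lett a t q r) (qw i) = pt a q i := by
  rw [qw, ev_append, ev_append, ev_replicate, ev_replicate, ev_cons, ev_nil, mul_one, pt, ← inv_pow]
  rfl

/-- The permutation of `t`. -/
def tp (i : ℕ) : ℕ := [0, 2, 1, 4, 3].getD i 0

/-- The word of the centre and of its inverse. -/
def zw : List ℕ := qw 0 ++ qw 1 ++ qw 0 ++ qw 1

/-- The inverse word of `zw`. -/
def zi : List ℕ := qw 1 ++ qw 0 ++ qw 1 ++ qw 0

/-- The relators before reduction. -/
def rawC : List (List ℕ) :=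
  ((List.range 5).map fun i => [2] ++ qw i ++ [2] ++ qw (tp i)) ++
  [zw ++ zw] ++
  ([(0, 2), (0, 3), (0, 4), (1, 2), (1, 3), (1, 4), (2, 3), (2, 4), (3, 4)].map fun p =>
    qw p.1 ++ qw p.2 ++ qw p.1 ++ qw p.2 ++ zi) ++
  [[0] ++ zw ++ [1] ++ zi, [2] ++ zw ++ [2] ++ zi, [4] ++ zw ++ [4] ++ zi] ++
  [qw 0 ++ qw 1 ++ qw 2 ++ qw 3 ++ qw 4]

theorem relWords_eq : HJC1920.relWords =
    [[0, 0, 0, 0, 0], [2, 2], [4, 4], [0, 2, 0, 2, 0, 2]] ++ rawC.map red := by decide +kernel

/-- The identities behind the relators. -/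
structure Rels (z a t q : G) : Prop where
  ha : a ^ 5 = 1
  ht : t * t = 1
  hq : q * q = 1
  hat : (a * t) ^ 3 = 1
  htu : ∀ i < 5, t * pt a q i * t⁻¹ = pt a q (tp i)
  hz : z * z = 1
  za : Commute z a
  zt : Commute z t
  zq : Commute z q
  anti : ∀ i j, i < 5 → j < 5 → i ≠ j → pt a q i * pt a q j * (pt a q i * pt a q j) = z
  prod : pt a q 0 * pt a q 1 * pt a q 2 * pt a q 3 * pt a q 4 = 1

theorem Rels.ev_raw {z a t q : G} (h : Rels z a t q) (r : G) :
    ∀ l ∈ rawC, ev (lett a t q r) l = 1 := by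
  have hti : t⁻¹ = t := inv_eq_of_mul_eq_one_right h.ht
  have hqi : q⁻¹ = q := inv_eq_of_mul_eq_one_right h.hq
  have hzw : ev (lett a t q r) zw = z := by
    simp only [zw, ev_append, ev_qw]
    rw [mul_assoc]
    exact h.anti 0 1 (by omega) (by omega) (by omega)
  have hzi : ev (lett a t q r) zi = z := by
    simp only [zi, ev_append, ev_qw]
    rw [mul_assoc]
    exact h.anti 1 0 (by omega) (by omega) (by omega)
  have hsq : ∀ i, pt a q i * pt a q i = 1 := fun i => by
    rw [pt, show a ^ i * q * (a ^ i)⁻¹ * (a ^ i * q * (a ^ i)⁻¹) = a ^ i * (q * q) * (a ^ i)⁻¹ by group,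
      h.hq]
    group
  intro l hl
  simp only [rawC, List.mem_append, List.mem_cons, List.not_mem_nil, or_false, List.mem_map,
    List.mem_range] at hl
  rcases hl with (((hl | hl) | hl) | hl) | hl
  · obtain ⟨i, hi, rfl⟩ := hl
    simp only [ev_append, ev_qw, ev_cons, ev_nil, mul_one]
    show t * pt a q i * t * pt a q (tp i) = 1
    have h1 := h.htu i hi
    rw [hti] at h1
    rw [h1, hsq]
  · subst hl
    rw [ev_append, hzw, h.hz]
  · obtain ⟨p, hp, rfl⟩ := hl
    simp only [ev_append, ev_qw, hzi]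
    rw [mul_assoc (pt a q p.1 * pt a q p.2)]
    rcases hp with rfl | rfl | rfl | rfl | rfl | rfl | rfl | rfl | rfl <;>
      (rw [h.anti _ _ (by decide) (by decide) (by decide), h.hz])
  · rcases hl with rfl | rfl | rfl
    · simp only [ev_append, ev_cons, ev_nil, mul_one, hzw, hzi]
      show a * z * a⁻¹ * z = 1
      rw [← h.za.eq, mul_inv_cancel_right, h.hz]
    · simp only [ev_append, ev_cons, ev_nil, mul_one, hzw, hzi]
      show t * z * t * z = 1
      rw [← h.zt.eq, mul_assoc z, h.ht, mul_one, h.hz]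
    · simp only [ev_append, ev_cons, ev_nil, mul_one, hzw, hzi]
      show q * z * q * z = 1
      rw [← h.zq.eq, mul_assoc z, h.hq, mul_one, h.hz]
  · subst hl
    simp only [ev_append, ev_qw]
    exact h.prod

theorem Rels.ev_rel {z a t q : G} (h : Rels z a t q) (r : G) :
    ∀ l ∈ HJC1920.relWords, ev (lett a t q r) l = 1 := by
  intro l hl
  rw [relWords_eq, List.mem_append, List.mem_map] at hl
  rcases hl with hl | ⟨l', hl', rfl⟩
  · simp only [List.mem_cons, List.not_mem_nil, or_false] at hl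
    rcases hl with rfl | rfl | rfl | rfl
    · simpa [ev, lett, pow_succ, mul_assoc] using h.ha
    · simpa [ev, lett] using h.ht
    · simpa [ev, lett] using h.hq
    · simpa [ev, lett, pow_succ, mul_assoc] using h.hat
  · rw [ev_red h.ht h.hq, h.ev_raw r l' hl']

end Cfsg.Agent.Lib.HJUniq
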