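import Mathlib
import Cfsg.Agent.Lib.HJUniq.Words
import Cfsg.Agent.Lib.ExactCover.Ker

/-!
# Uniqueness of the Hall-Janko group: the centraliser as a table

The presented group on `a, t, q` has order `1920`; equalities between words in `C(z)` are equalities
between positions in its regular table.

Owner: helper99.
-/

set_option autoImplicit false
set_option linter.style.haveILetI false

namespace Cfsg.Agent.Lib.HJUniq

open Cfsg.Agent.Lib.CosetEnum Cfsg.Agent.Lib.ExactCover

/-- The position of a word. -/
noncomputable def sc (l : List ℕ) : ℕ := scan 6 HJC1920.table l 0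

/-- The word of a position, read off the spanning tree. -/
noncomputable def wdF : ℕ → ℕ → List ℕ
  | 0, _ => []
  | f + 1, i => if Nat.beq i 0 then []
      else wdF f (get32 HJC1920.parent (2 * i)) ++ [get32 HJC1920.parent (2 * i + 1)]

/-- The word of a position. -/
noncomputable def wd (i : ℕ) : List ℕ := wdF 16 i

/-- All letters are below `6`. -/
def small (l : List ℕ) : Bool := l.all fun g => Nat.blt g 6

theorem wd_check :
    allBelow 1920 (fun i => Nat.beq (sc (wd i)) i && small (wd i)) = true := by decide +kernel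

theorem small_iff {l : List ℕ} : small l = true ↔ ∀ g ∈ l, g < 6 := by
  simp [small]

theorem sc_wd {i : ℕ} (hi : i < 1920) : sc (wd i) = i := by
  have h := allBelow_iff.1 wd_check i hi
  simp only [Bool.and_eq_true, Nat.beq_eq] at h
  exact h.1

theorem small_wd {i : ℕ} (hi : i < 1920) : small (wd i) = true := by
  have h := allBelow_iff.1 wd_check i hi
  simp only [Bool.and_eq_true] at h
  exact h.2

/-- The presented group. -/
abbrev PC : Type := PresentedGroup HJC1920.pres

theorem card_PC : Nat.card PC = 1920 := by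
  have h := card_eq_of_enum HJC1920.enum
  rw [subOf_eq (n := 3) (R := HJC1920.relWords) (by simp [HJC1920.subWords])] at h
  have e : {x : PC | ∃ l ∈ HJC1920.subWords, el (n := 3) HJC1920.relWords l = x} = ∅ := by
    simp [HJC1920.subWords]
  rw [e, Subgroup.closure_empty, Subgroup.card_bot, one_mul] at h
  exact h

theorem sc_eq_iff {l l' : List ℕ} (hl : small l = true) (hl' : small l' = true) :
    sc l = sc l' ↔ el (n := 3) HJC1920.relWords l = el HJC1920.relWords l' := by
  obtain ⟨act, hact⟩ := exists_act_of_enum HJC1920.enum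
  have hb : ∀ x : PC, act.obs.val x = act.obs.val 1 → x = 1 := fun x hx => by
    have h := hact x hx
    rw [subOf_eq (n := 3) (R := HJC1920.relWords) (by simp [HJC1920.subWords])] at h
    have e : {x : PC | ∃ l ∈ HJC1920.subWords, el (n := 3) HJC1920.relWords l = x} = ∅ := by
      simp [HJC1920.subWords]
    rw [e, Subgroup.closure_empty, Subgroup.mem_bot] at h
    exact h
  have e1 := act.obs.onWord_eq l (small_iff.1 hl)
  have e2 := act.obs.onWord_eq l' (small_iff.1 hl')
  constructor
  · intro h
    have h1 := act.obs.cong (el _ l) (el _ l') (e1.trans (h.trans e2.symm))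
    exact (mul_inv_eq_one.1 (hb _ h1)).symm
  · intro h
    exact e1.symm.trans ((congrArg act.obs.val h).trans e2)

variable {G : Type*} [Group G] {z a t q : G}

/-- The three generators satisfy the relators and generate `C(z)`, of order `1920`. -/
structure Chart (z a t q : G) : Prop extends Rels z a t q where
  gen : Subgroup.closure {a, t, q} = Subgroup.centralizer ({z} : Set G)
  card : Nat.card (Subgroup.centralizer ({z} : Set G)) = 1920

/-- The value of a word in `a, t, q`. -/
abbrev evC (a t q : G) (l : List ℕ) : G := ev (lett a t q 1) l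

/-- The element of a position. -/
noncomputable def E (a t q : G) (i : ℕ) : G := evC a t q (wd i)

theorem lift_word3 (a t q : G) {l : List ℕ} (hl : ∀ g ∈ l, g < 6) :
    FreeGroup.lift ![a, t, q] (word 3 l) = evC a t q l := by
  refine map_lift_word (n := 3) ![a, t, q] (MonoidHom.id G) (lett a t q 1) ?_ l hl
  refine forall_lt_two_mul (n := 3) fun i => ?_
  rw [MonoidHom.id_apply, MonoidHom.id_apply, lift_word_pos, lift_word_neg]
  fin_cases i <;> exact ⟨rfl, rfl⟩

theorem relWords_small : ∀ l ∈ HJC1920.relWords, small l = true := by decide +kernel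

theorem Rels.exists_hom (h : Rels z a t q) :
    ∃ σ : PC →* G, (∀ l, small l = true → σ (el HJC1920.relWords l) = evC a t q l) ∧
      σ.range = Subgroup.closure {a, t, q} := by
  have hR : ∀ r ∈ HJC1920.pres, FreeGroup.lift ![a, t, q] r = 1 := by
    intro r hr
    obtain ⟨l, hl, rfl⟩ := List.mem_map.1 hr
    show FreeGroup.lift ![a, t, q] (word 3 l) = 1
    rw [lift_word3 a t q (small_iff.1 (relWords_small l hl))]
    exact h.ev_rel 1 l hl
  refine ⟨PresentedGroup.toGroup hR, fun l hl => lift_word3 a t q (small_iff.1 hl), ?_⟩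
  rw [MonoidHom.range_eq_map, ← PresentedGroup.closure_range_of, MonoidHom.map_closure, ← Set.range_comp]
  congr 1
  ext x
  constructor
  · rintro ⟨i, rfl⟩
    fin_cases i <;> simp
  · rintro (rfl | rfl | rfl)
    exacts [⟨0, by simp⟩, ⟨1, by simp⟩, ⟨2, by simp⟩]

namespace Chart

theorem exists_iso (h : Chart z a t q) :
    ∃ σ : PC →* G, (∀ l, small l = true → σ (el HJC1920.relWords l) = evC a t q l) ∧
      Function.Injective σ ∧ σ.range = Subgroup.centralizer ({z} : Set G) := by
  obtain ⟨σ, hσ, hr⟩ := h.toRels.exists_hom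
  rw [h.gen] at hr
  refine ⟨σ, hσ, ?_, hr⟩
  haveI : Finite PC := Nat.finite_of_card_ne_zero (by rw [card_PC]; omega)
  have hb : Function.Bijective σ.rangeRestrict := (Nat.bijective_iff_surjective_and_card _).2
    ⟨σ.rangeRestrict_surjective, by rw [card_PC, hr, h.card]⟩
  exact fun x y e => hb.1 (Subtype.ext e)

/-- Two words have the same value exactly when they lead to the same position. -/
theorem iff (h : Chart z a t q) {l l' : List ℕ} (hl : small l = true) (hl' : small l' = true) :
    evC a t q l = evC a t q l' ↔ sc l = sc l' := by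
  obtain ⟨σ, hσ, hi, -⟩ := h.exists_iso
  rw [← hσ l hl, ← hσ l' hl', hi.eq_iff, sc_eq_iff hl hl']

/-- An equality checked on the table. -/
theorem eq_of (h : Chart z a t q) {l l' : List ℕ}
    (e : (small l && small l' && Nat.beq (sc l) (sc l')) = true) : evC a t q l = evC a t q l' := by
  simp only [Bool.and_eq_true, Nat.beq_eq] at e
  exact (h.iff e.1.1 e.1.2).2 e.2

theorem eq_E (h : Chart z a t q) {l : List ℕ} {i : ℕ}
    (e : (small l && Nat.beq (sc l) i && Nat.blt i 1920) = true) : evC a t q l = E a t q i := by
  simp only [Bool.and_eq_true, Nat.beq_eq, Nat.blt_eq] at e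
  exact (h.iff e.1.1 (small_wd e.2)).2 (by rw [sc_wd e.2, e.1.2])

theorem mem (h : Chart z a t q) {l : List ℕ} (hl : small l = true) :
    evC a t q l ∈ Subgroup.centralizer ({z} : Set G) := by
  obtain ⟨σ, hσ, -, hr⟩ := h.exists_iso
  rw [← hσ l hl, ← hr]
  exact ⟨_, rfl⟩

theorem surj (h : Chart z a t q) {c : G} (hc : c ∈ Subgroup.centralizer ({z} : Set G)) :
    ∃ i < 1920, c = E a t q i := by
  obtain ⟨σ, hσ, hi, hr⟩ := h.exists_iso
  haveI : Finite (Subgroup.centralizer ({z} : Set G)) := Nat.finite_of_card_ne_zero (by rw [h.card]; omega)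
  let f : Fin 1920 → Subgroup.centralizer ({z} : Set G) := fun i => ⟨E a t q i, h.mem (small_wd i.2)⟩
  have hf : Function.Bijective f := (Nat.bijective_iff_injective_and_card f).2 ⟨fun i j e => Fin.ext (by
    have := (h.iff (small_wd i.2) (small_wd j.2)).1 (congrArg Subtype.val e)
    rwa [sc_wd i.2, sc_wd j.2] at this), by rw [Nat.card_fin, h.card]⟩
  obtain ⟨i, hi'⟩ := hf.2 ⟨c, hc⟩
  exact ⟨i, i.2, (congrArg Subtype.val hi').symm⟩

end Chart

end Cfsg.Agent.Lib.HJUniq
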