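import Mathlib
import Cfsg.Agent.Lib.HallJanko.TLocal
import Cfsg.Agent.Lib.HJUniq.Table

/-!
# Uniqueness of the Hall-Janko group: standard generators of the centraliser

Owner: helper99.
-/

set_option autoImplicit false
set_option linter.style.haveILetI false

namespace Cfsg.Agent.Lib.HJUniq

open Cfsg.Agent.Lib.LargeExtraspecial.Basic Cfsg.Agent.Lib.HallJanko Cfsg.Agent.Lib.HallJanko.Model
open Cfsg.Agent.Lib.Involutions.Basic (invol_iff)

/-- The image of `a`. -/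
abbrev sA : Equiv.Perm (Fin 5) := finRotate 5

/-- The image of `t`. -/
abbrev sT : Equiv.Perm (Fin 5) := Equiv.swap 1 2 * Equiv.swap 3 4

/-- The value of a word in `A₅`. -/
def permW (l : List ℕ) : Equiv.Perm (Fin 5) := (l.map fun g => if g = 0 then sA else sT).prod

/-- Words for the elements of `A₅`. -/
def a5Words : List (List ℕ) := [[], [0], [2], [0, 0], [0, 2], [2, 0], [0, 0, 0], [0, 0, 2], [0, 2, 0], [2, 0, 0], [2, 0, 2], [0, 0, 0, 0], [0, 0, 0, 2], [0, 0, 2, 0], [0, 2, 0, 0], [0, 2, 0, 2], [2, 0, 0, 0], [2, 0, 0, 2], [2, 0, 2, 0], [0, 0, 0, 2, 0], [0, 0, 2, 0, 0], [0, 0, 2, 0, 2], [0, 2, 0, 0, 0], [0, 2, 0, 0, 2], [2, 0, 0, 0, 2], [2, 0, 0, 2, 0], [2, 0, 2, 0, 0], [0, 0, 0, 2, 0, 0], [0, 0, 0, 2, 0, 2], [0, 0, 2, 0, 0, 0], [0, 0, 2, 0, 0, 2], [0, 2, 0, 0, 0, 2], [2, 0, 0, 0, 2, 0], [2, 0, 0, 2, 0, 0], [2, 0, 0, 2, 0, 2], [2, 0, 2, 0, 0, 0], [2, 0, 2, 0, 0, 2], [0, 0, 0, 2, 0, 0, 0], [0, 0, 0, 2, 0, 0, 2],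 [0, 0, 2, 0, 0, 0, 2], [0, 2, 0, 0, 0, 2, 0], [2, 0, 0, 0, 2, 0, 0], [2, 0, 0, 0, 2, 0, 2], [2, 0, 0, 2, 0, 0, 0], [2, 0, 0, 2, 0, 0, 2], [2, 0, 2, 0, 0, 0, 2], [0, 0, 0, 2, 0, 0, 0, 2], [0, 0, 2, 0, 0, 0, 2, 0], [0, 2, 0, 0, 0, 2, 0, 0], [0, 2, 0, 0, 0, 2, 0, 2], [2, 0, 0, 0, 2, 0, 0, 2], [2, 0, 0, 2, 0, 0, 0, 2], [0, 0, 0, 2, 0, 0, 0, 2, 0], [0, 0, 2, 0, 0, 0, 2, 0, 0], [0, 0, 2, 0, 0, 0, 2, 0, 2], [0, 2, 0, 0, 0, 2, 0, 0, 2], [2, 0, 0, 2, 0, 0, 0, 2, 0], [0, 0, 0, 2, 0, 0, 0, 2, 0, 0], [0, 0, 0, 2, 0, 0, 0, 2, 0, 2], [0, 0, 2, 0, 0, 0, 2, 0, 0, 2]]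

theorem a5_check : ∀ π : Equiv.Perm (Fin 5), Equiv.Perm.sign π = 1 → ∃ l ∈ a5Words, permW l = π := by
  decide +kernel

theorem sA_facts : Equiv.Perm.sign sA = 1 ∧ sA ^ 5 = 1 ∧ (∀ i : Fin 5, (sA ^ (i : ℕ)) 0 = i) ∧
    Equiv.Perm.sign sT = 1 ∧ sT ≠ 1 ∧ sT * sT = 1 ∧ (sA * sT) ^ 3 = 1 ∧
    ∀ i : Fin 5, ((sT i : Fin 5) : ℕ) = tp i := by decide +kernel

variable {G : Type*} [Group G] [Finite G] {z : G} {Q : Subgroup G} {u : Fin 5 → G}

theorem chi_z (h : Five z Q u) {x : G} (hx : x ∈ Q) : chi x z = 0 :=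
  chi_eq_zero.2 (h.es.comm x hx)

/-- Changing the representatives by `z`. -/
theorem modify (h : Five z Q u) {v : Fin 5 → G} (hv : ∀ i, v i = u i ∨ v i = u i * z) :
    Five z Q v := by
  have hm : ∀ i, v i ∈ Q := fun i => by
    rcases hv i with e | e <;> rw [e]
    exacts [h.mem i, mul_mem (h.mem i) h.es.mem]
  have hphi : ∀ i, phi u (v i) = allBut i := fun i => by
    rcases hv i with e | e <;> rw [e]
    · exact h.phi_u i
    · rw [h.phi_mul (h.mem i) h.es.mem, h.phi_z, h.phi_u, add_zero]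
  refine { toBase := h.toBase, mem := hm, sq := fun i => ?_, anti := fun i j hij => ?_, isConj := fun i => ?_ }
  · rcases hv i with e | e <;> rw [e]
    exacts [h.sq i, h.uz_mul_self i]
  · have h1 : chi (v i) (u j) = 1 := by
      have := congrFun (hphi i) j
      rw [allBut, if_neg (Ne.symm hij)] at this
      exact this
    rcases hv j with e | e <;> rw [e]
    · exact h1
    · rw [h.es.chi_comm, h.es.chi_mul_left (h.mem j) h.es.mem (hm i), h.es.chi_comm, h1, h.es.chi_comm,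
        chi_z h (hm i), add_zero]
  · rcases hv i with e | e <;> rw [e]
    exacts [h.isConj i, h.isConj_uz i]

theorem eq_one_or_z (h : Five z Q u) {x : G} (hx : x ∈ Q) (hc : ∀ i, Commute x (u i)) : x = 1 ∨ x = z :=
  h.range_card_and_ker.2.2 x hx (funext fun i => chi_eq_zero.2 (hc i))

theorem pr_pow (h : Five z Q u) {c : G} (hc : c ∈ Subgroup.centralizer ({z} : Set G)) (k : ℕ) :
    h.pr (c ^ k) = h.pr c ^ k := by
  induction k with
  | zero => rw [pow_zero, pow_zero, h.pr_of_mem (one_mem Q)]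
  | succ k ih => rw [pow_succ, pow_succ, h.pr_mul (pow_mem hc k) hc, ih]

theorem pow_sixteen (h : Five z Q u) {x : G} (hx : x ∈ Q) : x ^ 16 = 1 := by
  have h1 : x * x = 1 ∨ x * x = z := by
    refine eq_one_or_z h (mul_mem hx hx) fun i => ?_
    rcases h.es.conj x hx (u i) (h.mem i) with e | e
    · have := mul_inv_eq_iff_eq_mul.1 e
      exact (show Commute x (u i) from this).mul_left (show Commute x (u i) from this)
    · show x * x * u i = u i * (x * x)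
      calc x * x * u i = x * (x * u i * x⁻¹) * x := by group
        _ = (x * u i * x⁻¹) * x * (z * x) := by
            rw [e, ← mul_assoc x (u i) z, show x * u i = u i * z * x by rw [← e]; group]; group
        _ = u i * z * x * (x * z) := by rw [e, (h.es.comm x hx).eq]
        _ = u i * (z * (x * x)) * z := by group
        _ = u i * (x * x) * (z * z) := by
            rw [((h.es.comm _ (mul_mem hx hx)).symm).eq]; group
        _ = _ := by rw [h.es.sq, mul_one]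
  rcases h1 with e | e
  · rw [show x ^ 16 = (x * x) ^ 8 by rw [← pow_two, ← pow_mul], e, one_pow]
  · rw [show x ^ 16 = ((x * x) * (x * x)) ^ 4 by rw [← pow_two, ← pow_two, ← pow_mul, ← pow_mul], e,
      h.es.sq, one_pow]

theorem conj_mul_central {c x z : G} (hc : Commute c z) : c * (x * z) * c⁻¹ = c * x * c⁻¹ * z := by
  calc c * (x * z) * c⁻¹ = c * x * (z * c⁻¹) := by group
    _ = c * x * (c⁻¹ * z) := by rw [(hc.inv_left).eq]
    _ = _ := by group

theorem pt_mul_central {a q z : G} (hc : Commute a z) (k : ℕ) : pt a (q * z) k = pt a q k * z :=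
  conj_mul_central (hc.pow_left k)

/-- The element `a` and the point `q`. -/
theorem exists_cycle (h : Five z Q u) :
    ∃ a q : G, a ∈ Subgroup.centralizer ({z} : Set G) ∧ a ^ 5 = 1 ∧ h.pr a = sA ∧
      (∀ i : Fin 5, pt a q i = u i ∨ pt a q i = u i * z) ∧
      pt a q 0 * pt a q 1 * pt a q 2 * pt a q 3 * pt a q 4 = 1 := by
  obtain ⟨hsA, hsA5, hsA0, -, -, -, -, -⟩ := sA_facts
  set C := Subgroup.centralizer ({z} : Set G) with hC
  have hQC : Q ≤ C := h.toBase.z_mem_centralizer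
  have hzc : ∀ c ∈ C, Commute c z := fun c hc => h.toBase.commute_of_mem_centralizer hc
  obtain ⟨c, hc, hcσ⟩ := h.exists_lift sA hsA
  have hc5 : c ^ 5 ∈ Q := h.mem_of_pr (pow_mem hc 5) (by rw [pr_pow h hc, hcσ, hsA5])
  set a := c ^ 16 with ha
  have haC : a ∈ C := pow_mem hc 16
  have ha5 : a ^ 5 = 1 := by rw [ha, ← pow_mul, mul_comm, pow_mul, pow_sixteen h hc5]
  have haσ : h.pr a = sA := by
    rw [ha, pr_pow h hc, hcσ, show (16 : ℕ) = 5 * 3 + 1 from rfl, pow_add, pow_mul, hsA5, one_pow,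
      one_mul, pow_one]
  have hp : ∀ i : Fin 5, pt a (u 0) i = u i ∨ pt a (u 0) i = u i * z := by
    intro i
    have h1 := h.conj_u (pow_mem haC (i : ℕ)) 0
    rw [pr_pow h haC, haσ, hsA0] at h1
    exact h1
  have hm : ∀ i : Fin 5, pt a (u 0) i ∈ Q ∧ phi u (pt a (u 0) i) = allBut i := fun i => by
    rcases hp i with e | e <;> rw [e]
    · exact ⟨h.mem i, h.phi_u i⟩
    · exact ⟨mul_mem (h.mem i) h.es.mem, by rw [h.phi_mul (h.mem i) h.es.mem, h.phi_z, h.phi_u, add_zero]⟩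
  obtain ⟨p, hpdef⟩ : ∃ p : ℕ → G, p = pt a (u 0) := ⟨_, rfl⟩
  rw [← hpdef] at hm
  have m0 : p 0 ∈ Q ∧ phi u (p 0) = allBut 0 := hm 0
  have m1 : p 1 ∈ Q ∧ phi u (p 1) = allBut 1 := hm 1
  have m2 : p 2 ∈ Q ∧ phi u (p 2) = allBut 2 := hm 2
  have m3 : p 3 ∈ Q ∧ phi u (p 3) = allBut 3 := hm 3
  have m4 : p 4 ∈ Q ∧ phi u (p 4) = allBut 4 := hm 4
  rcases h.range_card_and_ker.2.2 (p 0 * p 1 * p 2 * p 3 * p 4)
      (mul_mem (mul_mem (mul_mem (mul_mem m0.1 m1.1) m2.1) m3.1) m4.1) (by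
        rw [h.phi_mul (mul_mem (mul_mem (mul_mem m0.1 m1.1) m2.1) m3.1) m4.1,
          h.phi_mul (mul_mem (mul_mem m0.1 m1.1) m2.1) m3.1, h.phi_mul (mul_mem m0.1 m1.1) m2.1,
          h.phi_mul m0.1 m1.1, m0.2, m1.2, m2.2, m3.2, m4.2]
        decide) with e | e
  · exact ⟨a, u 0, haC, ha5, haσ, hp, by rw [← hpdef]; exact e⟩
  refine ⟨a, u 0 * z, haC, ha5, haσ, fun i => ?_, ?_⟩
  · rw [pt_mul_central (hzc a haC)]
    rcases hp i with e1 | e1 <;> rw [e1]
    · exact Or.inr rfl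
    · left; rw [mul_assoc, h.es.sq, mul_one]
  · simp only [pt_mul_central (hzc a haC), ← hpdef]
    have z1 := (h.es.comm _ m1.1).symm
    have z3 := (h.es.comm _ m3.1).symm
    calc p 0 * z * (p 1 * z) * (p 2 * z) * (p 3 * z) * (p 4 * z)
        = p 0 * (z * p 1) * z * p 2 * (z * p 3) * z * p 4 * z := by group
      _ = p 0 * p 1 * (z * z) * p 2 * p 3 * (z * z) * p 4 * z := by rw [z1.eq, z3.eq]; group
      _ = p 0 * p 1 * p 2 * p 3 * p 4 * z := by rw [h.es.sq]; group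
      _ = 1 := by rw [e, h.es.sq]

theorem five_swap (hv : Five z Q u) {i j : Fin 5} (hij : i ≠ j) : u i * u j = u j * u i * z := by
  have e := mul_inv_eq_iff_eq_mul.1 (hv.toBase.chi_one (hv.mem i) (hv.mem j) (hv.anti i j hij))
  rw [e, mul_assoc, (hv.es.comm _ (hv.mem i)).symm.eq, ← mul_assoc]

theorem five_prod_perm (hv : Five z Q u) (hprod : u 0 * u 1 * u 2 * u 3 * u 4 = 1) :
    u 0 * u 2 * u 1 * u 4 * u 3 = 1 := by
  have z3 := (hv.es.comm _ (hv.mem 3)).symm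
  have z4 := (hv.es.comm _ (hv.mem 4)).symm
  calc u 0 * u 2 * u 1 * u 4 * u 3 = u 0 * (u 2 * u 1) * (u 4 * u 3) := by group
    _ = u 0 * u 1 * u 2 * (z * u 3) * u 4 * z := by
        rw [five_swap hv (i := 2) (j := 1) (by decide), five_swap hv (i := 4) (j := 3) (by decide)]; group
    _ = u 0 * u 1 * u 2 * u 3 * (z * u 4) * z := by rw [z3.eq]; group
    _ = u 0 * u 1 * u 2 * u 3 * u 4 * (z * z) := by rw [z4.eq]; group
    _ = 1 := by rw [hprod, hv.es.sq, one_mul]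

theorem sT_vals : sT 0 = 0 ∧ sT 1 = 2 ∧ sT 2 = 1 ∧ sT 3 = 4 ∧ sT 4 = 3 := by decide +kernel

/-- An element permuting the five points as `sT`. -/
theorem exists_perm_lift (h : Five z Q u) {v : Fin 5 → G} (hvf : Five z Q v)
    (hvu : ∀ i, v i = u i ∨ v i = u i * z) (hprod : v 0 * v 1 * v 2 * v 3 * v 4 = 1) :
    ∃ t ∈ Subgroup.centralizer ({z} : Set G), h.pr t = sT ∧ ∀ i, t * v i * t⁻¹ = v (sT i) := by
  classical
  obtain ⟨-, -, -, hsT, -, -, -, -⟩ := sA_facts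
  obtain ⟨a0, a1, a2, a3, a4⟩ := sT_vals
  set C := Subgroup.centralizer ({z} : Set G) with hC
  have hQC : Q ≤ C := h.toBase.z_mem_centralizer
  have hzc : ∀ c ∈ C, Commute c z := fun c hc => h.toBase.commute_of_mem_centralizer hc
  obtain ⟨c, hc, hcτ⟩ := h.exists_lift sT hsT
  have hz2 : ∀ x : G, x * z * z = x := fun x => by rw [mul_assoc, h.es.sq, mul_one]
  have hcv : ∀ i, c * v i * c⁻¹ = v (sT i) ∨ c * v i * c⁻¹ = v (sT i) * z := by
    intro i
    have h1 := h.conj_u hc i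
    rw [hcτ] at h1
    have h2 := conj_mul_central (x := u i) (hzc c hc)
    generalize sT i = j at h1 ⊢
    rcases hvu i with e1 | e1 <;> rcases hvu j with e2 | e2 <;> rw [e1, e2] <;>
      rcases h1 with e | e <;> simp only [h2, e, hz2, true_or, or_true]
  obtain ⟨s, hs0, hs1⟩ : ∃ s : Fin 5 → ZMod 2, (∀ i, s i = 0 → c * v i * c⁻¹ = v (sT i)) ∧
      ∀ i, s i = 1 → c * v i * c⁻¹ = v (sT i) * z := by
    refine ⟨fun i => if c * v i * c⁻¹ = v (sT i) then 0 else 1, fun i hi => ?_, fun i hi => ?_⟩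
    · by_contra hne
      dsimp only at hi
      rw [if_neg hne] at hi
      exact one_ne_zero hi
    · refine (hcv i).resolve_left fun he => ?_
      dsimp only at hi
      rw [if_pos he] at hi
      exact zero_ne_one hi
  obtain ⟨w, hw, hwphi⟩ := hvf.phi_surj ![s 0, s 2, s 1, s 0 + s 2 + s 1 + s 3, s 3] (by
    show s 0 + s 2 + s 1 + (s 0 + s 2 + s 1 + s 3) + s 3 = 0
    generalize s 0 = x, s 1 = y, s 2 = y', s 3 = x'
    revert x y y' x'
    decide)
  have hsame : ∀ i : Fin 5, phi v w (sT i) = s i → w * c * v i * (w * c)⁻¹ = v (sT i) := by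
    intro i hi
    rw [show w * c * v i * (w * c)⁻¹ = w * (c * v i * c⁻¹) * w⁻¹ by group]
    rcases (show s i = 0 ∨ s i = 1 by generalize s i = x; revert x; decide) with hs | hs
    · rw [hs0 i hs]
      exact mul_inv_eq_iff_eq_mul.2 (chi_eq_zero.1 (hi.trans hs)).eq
    · rw [hs1 i hs, conj_mul_central (hzc w (hQC hw)),
        h.toBase.chi_one hw (hvf.mem _) (hi.trans hs), hz2]
  have he0 := hsame 0 (by rw [hwphi, a0]; rfl)
  have he1 := hsame 1 (by rw [hwphi, a1]; rfl)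
  have he2 := hsame 2 (by rw [hwphi, a2]; rfl)
  have he3 := hsame 3 (by rw [hwphi, a3]; rfl)
  rw [a0] at he0; rw [a1] at he1; rw [a2] at he2; rw [a3] at he3
  refine ⟨w * c, mul_mem (hQC hw) hc, by rw [h.pr_mul (hQC hw) hc, h.pr_of_mem hw, hcτ, one_mul], ?_⟩
  generalize w * c = t at he0 he1 he2 he3
  intro i
  fin_cases i
  · exact he0.trans (congrArg v a0.symm)
  · exact he1.trans (congrArg v a1.symm)
  · exact he2.trans (congrArg v a2.symm)
  · exact he3.trans (congrArg v a3.symm)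
  · refine Eq.trans ?_ (congrArg v a4.symm)
    show t * v 4 * t⁻¹ = v 3
    have e4 : v 4 = (v 0 * v 1 * v 2 * v 3)⁻¹ := eq_inv_of_mul_eq_one_right hprod
    calc t * v 4 * t⁻¹ = ((t * v 0 * t⁻¹) * (t * v 1 * t⁻¹) * (t * v 2 * t⁻¹) * (t * v 3 * t⁻¹))⁻¹ := by
          rw [e4]; group
      _ = (v 0 * v 2 * v 1 * v 4)⁻¹ := by rw [he0, he1, he2, he3]
      _ = v 3 := inv_eq_of_mul_eq_one_right (five_prod_perm hvf hprod)

theorem conj_comp {σ τ : Equiv.Perm (Fin 5)} {x y : G} (hx : ∀ i, x * u i * x⁻¹ = u (σ i))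
    (hy : ∀ i, y * u i * y⁻¹ = u (τ i)) (i : Fin 5) : x * y * u i * (x * y)⁻¹ = u ((σ * τ) i) := by
  rw [Equiv.Perm.mul_apply, show x * y * u i * (x * y)⁻¹ = x * (y * u i * y⁻¹) * x⁻¹ by group, hy, hx]

/-- The involution `t`. -/
theorem exists_t {t₀ : G} (h0 : Setting z Q u t₀) {v : Fin 5 → G} (hvf : Five z Q v)
    {a t₁ : G} (ha : a ∈ Subgroup.centralizer ({z} : Set G)) (hap : h0.toFive.pr a = sA)
    (hav : ∀ i, a * v i * a⁻¹ = v (sA i)) (ht : t₁ ∈ Subgroup.centralizer ({z} : Set G))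
    (htp : h0.toFive.pr t₁ = sT) (htv : ∀ i, t₁ * v i * t₁⁻¹ = v (sT i)) :
    ∃ t ∈ Subgroup.centralizer ({z} : Set G), h0.toFive.pr t = sT ∧ (∀ i, t * v i * t⁻¹ = v (sT i)) ∧
      t ∉ Q ∧ t * t = 1 ∧ (a * t) ^ 3 = 1 := by
  obtain ⟨-, -, -, -, hsT1, hsT2, hsAT, -⟩ := sA_facts
  have h : Five z Q u := h0.toFive
  set C := Subgroup.centralizer ({z} : Set G) with hC
  have hQC : Q ≤ C := h.toBase.z_mem_centralizer
  have hzc : ∀ c ∈ C, Commute c z := fun c hc => h.toBase.commute_of_mem_centralizer hc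
  have hfix : ∀ x ∈ C, h.pr x = 1 → ∀ σ : Equiv.Perm (Fin 5), σ = 1 → (∀ i, x * v i * x⁻¹ = v (σ i)) →
      x = 1 ∨ x = z := fun x hx hx1 σ hσ hc => eq_one_or_z hvf (h.mem_of_pr hx hx1)
    fun i => mul_inv_eq_iff_eq_mul.1 (by rw [hc i, hσ]; rfl)
  have htQ : t₁ ∉ Q := fun e => hsT1 (by rw [← htp, h.pr_of_mem e])
  have h2 := hfix (t₁ * t₁) (mul_mem ht ht) (by rw [h.pr_mul ht ht, htp, hsT2]) _ hsT2
    (conj_comp htv htv)
  have ht2 := (h.sq_central h0.tmem h0.tsq h0.tnot ht htQ h2).1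
  have hat := mul_mem ha ht
  have hpat : h.pr (a * t₁) = sA * sT := by rw [h.pr_mul ha ht, hap, htp]
  have c1 := conj_comp hav htv
  have h3 : (a * t₁) ^ 3 = 1 ∨ (a * t₁) ^ 3 = z := by
    refine hfix _ (pow_mem hat 3) (by rw [pr_pow h hat, hpat, hsAT])
      ((sA * sT) * (sA * sT) * (sA * sT)) (by rw [← hsAT, pow_succ, pow_two]) ?_
    rw [pow_succ (a * t₁), pow_two (a * t₁)]
    exact conj_comp (conj_comp c1 c1) c1
  rcases h3 with e | e
  · exact ⟨t₁, ht, htp, htv, htQ, ht2, e⟩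
  have hzC : z ∈ C := hQC h.es.mem
  refine ⟨t₁ * z, mul_mem ht hzC, by rw [h.pr_mul ht hzC, htp, h.pr_of_mem h.es.mem, mul_one],
    fun i => ?_, fun e' => htQ ?_, ?_, ?_⟩
  · rw [show t₁ * z * v i * (t₁ * z)⁻¹ = t₁ * (z * v i * z⁻¹) * t₁⁻¹ by group,
      (h.es.comm _ (hvf.mem i)).symm.eq, mul_inv_cancel_right, htv]
  · have := mul_mem e' h.es.mem
    rwa [mul_assoc, h.es.sq, mul_one] at this
  · rw [← pow_two, (hzc _ ht).mul_pow, pow_two, pow_two, ht2, h.es.sq, one_mul]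
  · rw [← mul_assoc, (hzc _ hat).mul_pow, e, show (3 : ℕ) = 2 + 1 from rfl, pow_succ z,
      pow_two, h.es.sq, one_mul, h.es.sq]

/-- `a, t, q` generate `C(z)`. -/
theorem closure_eq (h : Five z Q u) {v : Fin 5 → G} (hvf : Five z Q v) {a t q : G}
    (ha : a ∈ Subgroup.centralizer ({z} : Set G)) (hap : h.pr a = sA)
    (ht : t ∈ Subgroup.centralizer ({z} : Set G)) (htp : h.pr t = sT)
    (hq : q ∈ Q) (hv : ∀ i : Fin 5, v i = pt a q i)
    (hz : pt a q 0 * pt a q 1 * (pt a q 0 * pt a q 1) = z) :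
    Subgroup.closure {a, t, q} = Subgroup.centralizer ({z} : Set G) := by
  set C := Subgroup.centralizer ({z} : Set G) with hC
  have hQC : Q ≤ C := h.toBase.z_mem_centralizer
  set S := Subgroup.closure {a, t, q} with hS
  have hle : S ≤ C := by
    rw [hS, Subgroup.closure_le]
    rintro x (rfl | rfl | rfl)
    exacts [ha, ht, hQC hq]
  have haS : a ∈ S := Subgroup.subset_closure (by simp)
  have htS : t ∈ S := Subgroup.subset_closure (by simp)
  have hqS : q ∈ S := Subgroup.subset_closure (by simp)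
  have hpS : ∀ k, pt a q k ∈ S := fun k =>
    mul_mem (mul_mem (pow_mem haS _) hqS) (inv_mem (pow_mem haS _))
  have hzS : z ∈ S := hz ▸ mul_mem (mul_mem (hpS 0) (hpS 1)) (mul_mem (hpS 0) (hpS 1))
  have hQS : ∀ x ∈ Q, x ∈ S := by
    intro x hx
    obtain ⟨c0, c1, c2, c3, he⟩ := span_four _ (hvf.phi_even hx)
    have hmem : ∀ (e : ZMod 2) (j : Fin 5), ∃ y ∈ S, y ∈ Q ∧ phi v y = fun k => e * allBut j k := by
      intro e j
      rcases (show e = 0 ∨ e = 1 by revert e; decide) with rfl | rfl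
      · exact ⟨1, one_mem _, one_mem _, by rw [hvf.phi_one]; funext k; simp⟩
      · exact ⟨v j, hv j ▸ hpS j, hvf.mem j, by rw [hvf.phi_u]; funext k; simp⟩
    obtain ⟨y0, s0, q0, e0⟩ := hmem c0 0
    obtain ⟨y1, s1, q1, e1⟩ := hmem c1 1
    obtain ⟨y2, s2, q2, e2⟩ := hmem c2 2
    obtain ⟨y3, s3, q3, e3⟩ := hmem c3 3
    have hyQ := mul_mem (mul_mem (mul_mem q0 q1) q2) q3
    have hyS := mul_mem (mul_mem (mul_mem s0 s1) s2) s3
    have hy : phi v (y0 * y1 * y2 * y3) = phi v x := by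
      rw [hvf.phi_mul (mul_mem (mul_mem q0 q1) q2) q3, hvf.phi_mul (mul_mem q0 q1) q2,
        hvf.phi_mul q0 q1, e0, e1, e2, e3]
      exact funext fun k => (he k).symm
    have h1 := hvf.range_card_and_ker.2.2 (x * (y0 * y1 * y2 * y3)⁻¹) (mul_mem hx (inv_mem hyQ)) (by
      rw [hvf.phi_mul hx (inv_mem hyQ), hvf.phi_inv hyQ, hy]
      exact funext fun k => by rw [Pi.add_apply, Pi.zero_apply]; exact CharTwo.add_self_eq_zero _)
    have h2 : x * (y0 * y1 * y2 * y3)⁻¹ ∈ S := by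
      rcases h1 with e | e <;> rw [e]
      exacts [one_mem _, hzS]
    have := mul_mem h2 hyS
    rwa [inv_mul_cancel_right] at this
  refine le_antisymm hle fun x hx => ?_
  obtain ⟨l, -, hl⟩ := a5_check (h.pr x) (h.pr_sign hx)
  have key : ∀ l : List ℕ, ∃ y ∈ S, h.pr y = permW l := by
    intro l
    induction l with
    | nil => exact ⟨1, one_mem _, by rw [h.pr_of_mem (one_mem Q)]; rfl⟩
    | cons g l ih =>
      obtain ⟨y, hy, hyp⟩ := ih
      refine ⟨(if g = 0 then a else t) * y, mul_mem ?_ hy, ?_⟩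
      · split_ifs
        exacts [haS, htS]
      · rw [h.pr_mul (by split_ifs; exacts [ha, ht]) (hle hy), hyp, permW, permW, List.map_cons,
          List.prod_cons]
        split_ifs
        · rw [hap]
        · rw [htp]
  obtain ⟨y, hy, hyp⟩ := key l
  have h1 : x * y⁻¹ ∈ Q := h.mem_of_pr (mul_mem hx (inv_mem (hle hy)))
    (by rw [h.pr_mul hx (inv_mem (hle hy)), h.pr_inv (hle hy), hyp, hl, mul_inv_cancel])
  simpa using mul_mem (hQS _ h1) hy

theorem sA_next : ∀ i : Fin 5, ((i : ℕ) + 1) % 5 = ((sA i : Fin 5) : ℕ) := by decide +kernel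

/-- Standard generators. -/
theorem exists_chart {t₀ : G} (h0 : Setting z Q u t₀) :
    ∃ (v : Fin 5 → G) (a t : G), Setting z Q v t ∧ Chart z a t (v 0) := by
  obtain ⟨-, -, -, -, -, -, -, htp⟩ := sA_facts
  have h : Five z Q u := h0.toFive
  obtain ⟨a, q, haC, ha5, hap, hp, hprod⟩ := exists_cycle h
  obtain ⟨v, hv⟩ : ∃ v : Fin 5 → G, ∀ i : Fin 5, v i = pt a q i := ⟨fun i => pt a q i, fun _ => rfl⟩
  have hvu : ∀ i, v i = u i ∨ v i = u i * z := fun i => by rw [hv]; exact hp i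
  have hvf : Five z Q v := modify h hvu
  have hv0 : v 0 = q := by rw [hv]; simp [pt]
  have hqQ : q ∈ Q := hv0 ▸ hvf.mem 0
  have hprodv : v 0 * v 1 * v 2 * v 3 * v 4 = 1 := by simp only [hv]; exact hprod
  obtain ⟨t₁, ht₁, ht₁p, ht₁v⟩ := exists_perm_lift h hvf hvu hprodv
  have hav : ∀ i, a * v i * a⁻¹ = v (sA i) := fun i => by
    have e : pt a q ((i : ℕ) + 1) = a * pt a q i * a⁻¹ := by rw [pt, pt, pow_succ']; group
    rw [hv, hv, ← e, ← sA_next i]
    rw [pt, pt, pow_eq_pow_mod ((i : ℕ) + 1) ha5]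
  obtain ⟨t, htC, htpr, htv, htQ, ht2, hat⟩ := exists_t h0 hvf haC hap hav ht₁ ht₁p ht₁v
  have hzc : ∀ c ∈ Subgroup.centralizer ({z} : Set G), Commute c z :=
    fun c hc => h.toBase.commute_of_mem_centralizer hc
  have hrels : Rels z a t q :=
    { ha := ha5, ht := ht2, hq := hv0 ▸ hvf.sq 0, hat := hat
      htu := fun i hi => by
        have := htv ⟨i, hi⟩
        rwa [hv, hv, htp ⟨i, hi⟩] at this
      hz := h.es.sq, za := (hzc a haC).symm, zt := (hzc t htC).symm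
      zq := (h.es.comm _ hqQ).symm
      anti := fun i j hi hj hij => by
        have hne : (⟨i, hi⟩ : Fin 5) ≠ ⟨j, hj⟩ := fun e => hij (congrArg Fin.val e)
        have e : pt a q i * pt a q j = pt a q j * pt a q i * z := by
          simpa only [hv] using five_swap hvf hne
        have si : pt a q i * pt a q i = 1 := by simpa only [hv] using hvf.sq ⟨i, hi⟩
        have sj : pt a q j * pt a q j = 1 := by simpa only [hv] using hvf.sq ⟨j, hj⟩
        calc pt a q i * pt a q j * (pt a q i * pt a q j)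
            = pt a q i * pt a q j * (pt a q j * pt a q i * z) := by rw [← e]
          _ = pt a q i * (pt a q j * pt a q j) * pt a q i * z := by group
          _ = z := by rw [sj, mul_one, si, one_mul]
      prod := hprod }
  obtain ⟨-, d, -, hd⟩ := h.sq_central h0.tmem h0.tsq h0.tnot htC htQ (Or.inl ht2)
  have hconj : IsConj t₀ t := isConj_iff.2 ⟨d, hd⟩
  refine ⟨v, a, t,
    { toFive := hvf, tmem := htC, tsq := ht2, tnot := htQ, nconj := fun e => h0.nconj (e.trans hconj.symm)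
      classes := fun x hx => (h0.classes x hx).imp id fun e => hconj.symm.trans e },
    { toRels := hv0.symm ▸ hrels, gen := ?_, card := h.cent }⟩
  rw [hv0]
  exact closure_eq h hvf haC hap htC htpr hqQ hv (hrels.anti 0 1 (by omega) (by omega) (by omega))

end Cfsg.Agent.Lib.HJUniq
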