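import Mathlib
import Cfsg.Agent.Lib.HJUniq.Coord

/-!
# Uniqueness of the Hall-Janko group: the third element `r`

Owner: helper99.
-/

set_option autoImplicit false
set_option linter.style.haveILetI false

namespace Cfsg.Agent.Lib.HJUniq

open Cfsg.Agent.Lib.LargeExtraspecial.Basic Cfsg.Agent.Lib.HallJanko Cfsg.Agent.Lib.HallJanko.Model
open Cfsg.Agent.Lib.CosetEnum
open Cfsg.Agent.Lib.Involutions.Basic (invol_iff)

/-- The word of `z`. -/
def zW : List ℕ := [0, 4, 1, 4, 0, 4, 1, 4]
/-- The word of `q z`. -/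
def uzW : List ℕ := [0, 4, 1, 4, 0, 4, 1]
/-- The word of `k`. -/
def kW : List ℕ := [2, 0, 0, 2, 1]
/-- The word of `e`. -/
def eW : List ℕ := [0, 4, 0, 4, 1, 1]
/-- The word of the image of `e`. -/
def yW : List ℕ := [0, 0, 2, 1, 1, 2, 4, 1, 1, 4, 1, 2]

theorem c3_mem : Equiv.swap (0 : Fin 4) 1 * Equiv.swap 1 2 ∈ alternatingGroup (Fin 4) :=
  Equiv.Perm.mem_alternatingGroup.2 (by decide +kernel)

/-- A three-cycle. -/
def c3 : alternatingGroup (Fin 4) := ⟨_, c3_mem⟩

theorem c3_facts : c3 ^ 3 = 1 ∧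
    ∀ p : alternatingGroup (Fin 4), p * p = 1 → p ≠ 1 → c3 * p ≠ p * c3 := by decide +kernel

theorem alt_five_center : ∀ m : alternatingGroup (Fin 5), (∀ b, b * m = m * b) → m = 1 := by decide +kernel

set_option synthInstance.maxSize 2000 in
set_option synthInstance.maxHeartbeats 200000 in
theorem alt_five_cycle : ∀ x : Equiv.Perm (Fin 5), Equiv.Perm.sign x = 1 → x * x = 1 → x ≠ 1 →
    ∀ y : Equiv.Perm (Fin 5), Equiv.Perm.sign y = 1 → y * y = 1 → y ≠ 1 → y ≠ x → x * y = y * x →
    ∃ r : Equiv.Perm (Fin 5), Equiv.Perm.sign r = 1 ∧ r * r * r = 1 ∧ r * x = y * r ∧ r * y = x * y * r := by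
  decide +kernel

variable {G : Type*} [Group G]

/-- An element of order three centralising `M` and moving `t` in `V`. -/
theorem exists_cube [Finite G] {t : G} {V M : Subgroup G} (hp : TPair t V M) :
    ∃ k : G, k ^ 3 = 1 ∧ (∀ v ∈ V, k * v * k⁻¹ ∈ V) ∧ ¬ Commute k t ∧ ∀ m ∈ M, Commute k m := by
  haveI := hp.isSimple_M
  obtain ⟨e⟩ := hp.nonempty_iso_normalizer
  set N := Subgroup.normalizer (V : Set G) with hN
  have hVN : V ≤ N := Subgroup.le_normalizer
  have hMN : M ≤ N := fun m hm => mem_normalizer_of_conj _ fun v hv => by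
    rw [(hp.comm v hv m hm).symm.eq, mul_inv_cancel_right]; exact hv
  let ι : M →* alternatingGroup (Fin 4) × alternatingGroup (Fin 5) :=
    e.toMonoidHom.comp (Subgroup.inclusion hMN)
  have hι : Function.Injective ι := e.injective.comp (Subgroup.inclusion_injective hMN)
  have h1 : ∀ m, (ι m).1 = 1 := by
    have hk : ((MonoidHom.fst _ _).comp ι).ker = ⊤ := by
      refine (IsSimpleGroup.eq_bot_or_eq_top_of_normal _ inferInstance).resolve_left fun hb => ?_
      have h1 := Nat.card_le_card_of_injective _ ((MonoidHom.ker_eq_bot_iff _).1 hb)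
      rw [hp.card_M, Nat.card_eq_fintype_card,
        show Fintype.card (alternatingGroup (Fin 4)) = 12 from rfl] at h1
      omega
    intro m
    have := hk ▸ Subgroup.mem_top m
    exact MonoidHom.mem_ker.1 this
  have hsur : ∀ b, ∃ m : M, (ι m).2 = b := by
    have hb : Function.Bijective (fun m => (ι m).2) := (Nat.bijective_iff_injective_and_card _).2
      ⟨fun m m' h => hι (Prod.ext ((h1 m).trans (h1 m').symm) h), by
        rw [hp.card_M, Nat.card_eq_fintype_card]; rfl⟩
    exact hb.2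
  obtain ⟨hc3, hc3p⟩ := c3_facts
  set k : N := e.symm (c3, 1) with hk
  refine ⟨(k : G), ?_, fun v hv => (Subgroup.mem_normalizer_iff.1 k.2 v).1 hv, fun hc => ?_, fun m hm => ?_⟩
  · have : k ^ 3 = 1 := by
      rw [hk, ← map_pow, Prod.pow_mk, hc3, one_pow]
      exact map_one e.symm
    exact congrArg Subtype.val this
  · set t' : N := ⟨t, hVN hp.tV⟩
    have hm2 : (e t').2 = 1 := alt_five_center _ fun b => by
      obtain ⟨m, rfl⟩ := hsur b
      have h2 : e ⟨m.1, hMN m.2⟩ * e t' = e t' * e ⟨m.1, hMN m.2⟩ := by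
        rw [← map_mul, ← map_mul]
        exact congrArg e (Subtype.ext (hp.comm t hp.tV m m.2).symm.eq)
      exact congrArg Prod.snd h2
    have ht' : t' * t' = 1 := Subtype.ext (hp.Vsq t hp.tV)
    have hp2 : (e t').1 * (e t').1 = 1 := by
      rw [← Prod.fst_mul, ← map_mul, ht', map_one, Prod.fst_one]
    have hne : (e t').1 ≠ 1 := fun h0 => hp.tne (by
      have : e t' = 1 := Prod.ext h0 hm2
      exact congrArg Subtype.val (e.map_eq_one_iff.1 this))
    refine hc3p _ hp2 hne ?_
    have hkt : k * t' = t' * k := Subtype.ext hc.eq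
    have := congrArg (fun x => (e x).1) hkt
    simpa [hk] using this
  · have hkm : k * ⟨m, hMN hm⟩ = ⟨m, hMN hm⟩ * k := e.injective (by
      rw [map_mul, map_mul, hk, e.apply_symm_apply]
      refine Prod.ext ?_ ?_
      · show c3 * (ι ⟨m, hm⟩).1 = (ι ⟨m, hm⟩).1 * c3
        rw [h1, mul_one, one_mul]
      · show 1 * (ι ⟨m, hm⟩).2 = (ι ⟨m, hm⟩).2 * 1
        rw [mul_one, one_mul])
    exact congrArg Subtype.val hkm

theorem four_cases [Finite G] {V : Subgroup G} (hV : Nat.card V = 4) (hsq : ∀ v ∈ V, v * v = 1)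
    {x y w : G} (hx : x ∈ V) (hx1 : x ≠ 1) (hy : y ∈ V) (hy1 : y ≠ 1) (hxy : y ≠ x) (hw : w ∈ V) :
    w = 1 ∨ w = x ∨ w = y ∨ w = x * y := by
  by_contra hne
  simp only [not_or] at hne
  have hxy1 : x * y ≠ 1 := fun e => hxy (by
    rw [← inv_eq_of_mul_eq_one_right e, inv_eq_of_mul_eq_one_right (hsq x hx)])
  have hsub : ({1, x, y, x * y, w} : Set G) ⊆ (V : Set G) := by
    rintro a (rfl | rfl | rfl | rfl | rfl)
    exacts [one_mem V, hx, hy, mul_mem hx hy, hw]
  have h1 := Set.ncard_le_ncard hsub (Set.toFinite _)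
  have h2 : ({1, x, y, x * y, w} : Set G).ncard = 5 := by
    classical
    rw [Set.ncard_eq_toFinset_card']
    simp only [Set.toFinset_insert, Set.toFinset_singleton]
    have a1 : x * y ≠ x := fun e => hy1 (mul_eq_left.1 e)
    have a2 : x * y ≠ y := fun e => hx1 (mul_eq_right.1 e)
    simp [Finset.card_insert_of_notMem, hx1.symm, hy1.symm, hxy1.symm, hxy.symm, a1.symm, a2.symm,
      Ne.symm hne.1, Ne.symm hne.2.1, Ne.symm hne.2.2.1, Ne.symm hne.2.2.2]
  rw [h2, ← Nat.card_coe_set_eq] at h1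
  have : Nat.card ↥(V : Set G) = 4 := hV
  omega

/-- The candidates for `k`. -/
def kCand (w v : List ℕ) : List (List ℕ) :=
  [[], w, w ++ w, [2], [2] ++ w, [2] ++ w ++ w, v, v ++ w, v ++ w ++ w, [2] ++ v, [2] ++ v ++ w,
    [2] ++ v ++ w ++ w]

/-- The test determining `k`. -/
noncomputable def kCheck (j : ℕ) : Bool :=
  (fun w => (fun v =>
    !(Nat.beq (sc (w ++ w ++ w)) 0 && Nat.beq (sc (w ++ [4])) (sc ([4] ++ w)) &&
        Nat.beq (sc (v ++ [2])) (sc ([2] ++ v)) && !Nat.beq (sc v) 3 &&
        Nat.beq (sc (w ++ v ++ w ++ w)) (sc ([2] ++ v))) ||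
      (kCand w v).any fun l => small l && Nat.beq (sc l) 176) (w ++ [2] ++ w ++ w)) (wd j)

theorem k_check : allBelow 1920 kCheck = true := by decide +kernel

/-- Substitution of three words. -/
def sub (w0 w1 w2 : List ℕ) (idx : List ℕ) : List ℕ :=
  idx.flatMap fun i => [w0, w1, w2].getD i []

/-- The indices spelling `q`. -/
def qIdx : List ℕ := [0, 1, 2, 1, 2, 1, 0, 2]
/-- The indices spelling `q z`. -/
def uzIdx : List ℕ := [1, 2, 1, 2, 1, 2]
/-- The indices spelling `z`. -/
def zIdx : List ℕ := [2, 2]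

/-- The test determining the image of `e`. -/
noncomputable def yCheck (j : ℕ) : Bool :=
  (fun w =>
    !(Nat.beq (sc (w ++ [4])) (sc ([4] ++ w)) && Nat.beq (sc (sub [2] kW w qIdx)) 594 &&
        Nat.beq (sc (sub [2] kW w uzIdx)) 1015 && Nat.beq (sc (sub [2] kW w zIdx)) 4) ||
      Nat.beq j 1906) (wd j)

theorem y_check : allBelow 1920 yCheck = true := by decide +kernel

theorem small_append {l l' : List ℕ} (h : small l = true) (h' : small l' = true) :
    small (l ++ l') = true := by
  simp only [small, List.all_append, Bool.and_eq_true]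
  exact ⟨h, h'⟩

theorem small_sub {w0 w1 w2 : List ℕ} (h0 : small w0 = true) (h1 : small w1 = true)
    (h2 : small w2 = true) (idx : List ℕ) : small (sub w0 w1 w2 idx) = true := by
  induction idx with
  | nil => rfl
  | cons i idx ih =>
    rw [sub, List.flatMap_cons]
    refine small_append ?_ ih
    rcases i with _ | _ | _ | i <;> first | assumption | rfl

theorem conj_sub (φ : ℕ → G) {r : G} {w0 w1 w2 v0 v1 v2 : List ℕ}
    (h0 : r * ev φ w0 * r⁻¹ = ev φ v0) (h1 : r * ev φ w1 * r⁻¹ = ev φ v1)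
    (h2 : r * ev φ w2 * r⁻¹ = ev φ v2) (idx : List ℕ) :
    r * ev φ (sub w0 w1 w2 idx) * r⁻¹ = ev φ (sub v0 v1 v2 idx) := by
  induction idx with
  | nil => simp [sub, ev_nil]
  | cons i idx ih =>
    rw [sub, sub, List.flatMap_cons, List.flatMap_cons, ev_append, ev_append]
    rw [show r * (ev φ ([w0, w1, w2].getD i []) * ev φ (List.flatMap (fun i => [w0, w1, w2].getD i []) idx)) * r⁻¹
      = r * ev φ ([w0, w1, w2].getD i []) * r⁻¹ * (r * ev φ (sub w0 w1 w2 idx) * r⁻¹) by
        rw [sub]; group, ih]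
    refine congrArg (· * _) ?_
    rcases i with _ | _ | _ | i <;> first | assumption | simp [ev_nil]

theorem evC_single (a t q : G) : evC a t q [2] = t ∧ evC a t q [4] = q := by
  constructor <;> simp [ev, lett]

theorem evC_append (a t q : G) (l l' : List ℕ) : evC a t q (l ++ l') = evC a t q l * evC a t q l' :=
  ev_append _ _ _

theorem evC_nil (a t q : G) : evC a t q [] = 1 := rfl

theorem Rels.evC_zW {z a t q : G} (h : Rels z a t q) : evC a t q zW = z := by
  have h1 : zW = red zi := by decide +kernel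
  rw [h1, evC, ev_red h.ht h.hq, zi]
  simp only [ev_append, ev_qw]
  rw [mul_assoc]
  exact h.anti 1 0 (by omega) (by omega) (by omega)

theorem Chart.evC_uzW {z a t q : G} (h : Chart z a t q) : evC a t q uzW = q * z := by
  rw [h.eq_of (l := uzW) (l' := [4] ++ zW) (by decide +kernel), evC_append, h.toRels.evC_zW,
    (evC_single a t q).2]

/-- What the proof uses of `r`. -/
structure RProp (z a t q r : G) : Prop where
  cube : r ^ 3 = 1
  rt : Commute r t
  rk : Commute r (evC a t q kW)
  re : r * evC a t q eW * r⁻¹ = evC a t q yW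

theorem RProp.conj_idx {z a t q r : G} (h : RProp z a t q r) (idx : List ℕ) :
    r * evC a t q (sub [2] kW eW idx) * r⁻¹ = evC a t q (sub [2] kW yW idx) := by
  refine conj_sub _ ?_ ?_ h.re idx
  · show r * evC a t q [2] * r⁻¹ = evC a t q [2]
    rw [(evC_single a t q).1, h.rt.eq, mul_inv_cancel_right]
  · rw [h.rk.eq, mul_inv_cancel_right]

theorem RProp.rz {z a t q r : G} (hc : Chart z a t q) (h : RProp z a t q r) : r * z * r⁻¹ = q := by
  have e := h.conj_idx zIdx
  rw [hc.eq_of (l := sub [2] kW eW zIdx) (l' := zW) (by decide +kernel), hc.toRels.evC_zW,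
    hc.eq_of (l := sub [2] kW yW zIdx) (l' := [4]) (by decide +kernel), (evC_single a t q).2] at e
  exact e

theorem RProp.rq {z a t q r : G} (hc : Chart z a t q) (h : RProp z a t q r) : r * q * r⁻¹ = q * z := by
  have e := h.conj_idx qIdx
  rw [hc.eq_of (l := sub [2] kW eW qIdx) (l' := [4]) (by decide +kernel), (evC_single a t q).2,
    hc.eq_of (l := sub [2] kW yW qIdx) (l' := uzW) (by decide +kernel), hc.evC_uzW] at e
  exact e

theorem RProp.ruz {z a t q r : G} (hc : Chart z a t q) (h : RProp z a t q r) : r * (q * z) * r⁻¹ = z := by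
  rw [show r * (q * z) * r⁻¹ = r * q * r⁻¹ * (r * z * r⁻¹) by group, h.rq hc, h.rz hc,
    mul_assoc, ← hc.toRels.zq.symm.eq, ← mul_assoc, hc.toRels.hq, one_mul]

/-- The element `r`. -/
theorem exists_r [Finite G] {z : G} {Q : Subgroup G} {v : Fin 5 → G} {a t : G} (h : Setting z Q v t)
    (hc : Chart z a t (v 0)) : ∃ r, RProp z a t (v 0) r := by
  set q := v 0 with hq
  obtain ⟨V, M0, hs⟩ := h.exists_str
  obtain ⟨kk, hk3, hkV, hkt, hkM⟩ := exists_cube (hs.tpair h)
  have htq : Commute q t := by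
    have e := hc.eq_of (l := [4] ++ [2]) (l' := [2] ++ [4]) (by decide +kernel)
    rw [evC_append, evC_append, (evC_single a t q).1, (evC_single a t q).2] at e
    exact e
  have hqC : q ∈ Subgroup.centralizer ({t} : Set G) := mem_centralizer_of_commute htq
  have hq2 : orderOf q = 2 := invol_iff.2 ⟨h.sq 0, h.toFive.u_ne_one 0⟩
  have hqM : q ∈ M0 := ((hs.conj_iff q hqC).1 (h.isConj 0)).1
  obtain ⟨e⟩ := hs.iso
  have hperm : ∀ (x : M0), x * x = 1 → x ≠ 1 → Equiv.Perm.sign (e x : Equiv.Perm (Fin 5)) = 1 ∧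
      (e x : Equiv.Perm (Fin 5)) * e x = 1 ∧ (e x : Equiv.Perm (Fin 5)) ≠ 1 := fun x hx hx1 =>
    ⟨Equiv.Perm.mem_alternatingGroup.1 (e x).2, by rw [← Subgroup.coe_mul, ← map_mul, hx, map_one]; rfl,
      fun h1 => hx1 (e.injective (by rw [map_one]; exact Subtype.ext h1))⟩
  set Z : M0 := ⟨z, hs.zM0⟩
  set U : M0 := ⟨q, hqM⟩
  have hZ2 : Z * Z = 1 := Subtype.ext h.es.sq
  have hU2 : U * U = 1 := Subtype.ext (h.sq 0)
  have hZU : Z * U = U * Z := Subtype.ext hc.toRels.zq.eq
  obtain ⟨z1, z2, z3⟩ := hperm Z hZ2 fun e' => h.es.ne (congrArg Subtype.val e')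
  obtain ⟨u1, u2, u3⟩ := hperm U hU2 fun e' => h.toFive.u_ne_one 0 (congrArg Subtype.val e')
  obtain ⟨ρ, hρ1, hρ3, hρz, hρu⟩ := alt_five_cycle _ z1 z2 z3 _ u1 u2 u3
    (fun e' => h.toFive.u_ne_z 0 (congrArg Subtype.val (e.injective (Subtype.ext e'))))
    (by rw [← Subgroup.coe_mul, ← Subgroup.coe_mul, ← map_mul, ← map_mul, hZU])
  set R : M0 := e.symm ⟨ρ, Equiv.Perm.mem_alternatingGroup.2 hρ1⟩ with hR
  have hRe : (e R : Equiv.Perm (Fin 5)) = ρ := by rw [hR, e.apply_symm_apply]
  have hinj : ∀ x y : M0, (e x : Equiv.Perm (Fin 5)) = e y → x = y := fun x y h' =>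
    e.injective (Subtype.ext h')
  have hR3 : R * R * R = 1 := hinj _ _ (by
    rw [map_mul, map_mul, Subgroup.coe_mul, Subgroup.coe_mul, hRe, hρ3, map_one]; rfl)
  have hRz : R * Z = U * R := hinj _ _ (by
    rw [map_mul, map_mul, Subgroup.coe_mul, Subgroup.coe_mul, hRe, hρz])
  have hRu : R * U = Z * U * R := hinj _ _ (by
    rw [map_mul, map_mul, map_mul, Subgroup.coe_mul, Subgroup.coe_mul, Subgroup.coe_mul, hRe, hρu])
  set r : G := (R : G) with hr
  have hrz : r * z * r⁻¹ = q := mul_inv_eq_iff_eq_mul.2 (congrArg Subtype.val hRz)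
  have hrq : r * q * r⁻¹ = q * z := by
    rw [← hc.toRels.zq.eq]
    exact mul_inv_eq_iff_eq_mul.2 (congrArg Subtype.val hRu)
  have hruz : r * (q * z) * r⁻¹ = z := by
    rw [show r * (q * z) * r⁻¹ = r * q * r⁻¹ * (r * z * r⁻¹) by group, hrq, hrz,
      mul_assoc, hc.toRels.zq.eq, ← mul_assoc, hc.toRels.hq, one_mul]
  -- `k` lies in `V ⟨kk⟩`
  have hkz : Commute kk z := hkM z hs.zM0
  obtain ⟨j, hj, hjk⟩ := hc.surj (mem_centralizer_of_commute hkz)
  have hw : small (wd j) = true := small_wd hj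
  have hjw : evC a t q (wd j) = kk := hjk.symm
  have hkinv : kk⁻¹ = kk * kk := inv_eq_of_mul_eq_one_right (by rw [← mul_assoc, ← pow_two, ← pow_succ, hk3])
  set v1 := kk * t * kk⁻¹ with hv1
  have hv1V : v1 ∈ V := hkV t hs.tV
  have hvw : evC a t q (wd j ++ [2] ++ wd j ++ wd j) = v1 := by
    rw [evC_append, evC_append, evC_append, hjw, (evC_single a t q).1, hv1, hkinv, mul_assoc (kk * t)]
  have hv1t : v1 ≠ t := fun e' => hkt (mul_inv_eq_iff_eq_mul.1 e')
  have hv11 : v1 ≠ 1 := fun e' => (hs.tpair h).tne (conj_eq_one_iff.1 e')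
  have hkvk : kk * v1 * kk⁻¹ = t * v1 := by
    rcases four_cases hs.cardV hs.Vsq hs.tV (hs.tpair h).tne hv1V hv11 hv1t (hkV v1 hv1V) with
      e' | e' | e' | e'
    · exact absurd (conj_eq_one_iff.1 e') hv11
    · exfalso
      apply hkt
      have h2 : Commute (kk * kk) t := mul_inv_eq_iff_eq_mul.1 (by
        rw [show kk * kk * t * (kk * kk)⁻¹ = kk * v1 * kk⁻¹ by rw [hv1]; group, e'])
      have h3 := h2.mul_left h2
      rwa [← pow_two, ← pow_two, ← pow_mul, pow_succ, hk3, one_mul] at h3
    · exfalso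
      exact hv1t (mul_left_cancel (mul_right_cancel (e'.trans hv1)))
    · exact e'
  have hchk := allBelow_iff.1 k_check j hj
  simp only [kCheck, Bool.or_eq_true, List.any_eq_true, Bool.and_eq_true, Nat.beq_eq] at hchk
  rcases hchk with hbad | ⟨l, hl, hls, hl176⟩
  · exfalso
    rw [Bool.not_eq_true'] at hbad
    refine absurd hbad ?_
    simp only [Bool.not_eq_false, Bool.and_eq_true, Nat.beq_eq, Bool.not_eq_true']
    have s4 : small [4] = true := rfl
    have s2 : small [2] = true := rfl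
    have sv := small_append (small_append (small_append hw s2) hw) hw
    refine ⟨⟨⟨⟨?_, ?_⟩, ?_⟩, ?_⟩, ?_⟩
    · have e' : evC a t q (wd j ++ wd j ++ wd j) = evC a t q [] := by
        rw [evC_append, evC_append, hjw, ← pow_two, ← pow_succ, hk3]; rfl
      exact (hc.iff (small_append (small_append hw hw) hw) rfl).1 e'
    · refine (hc.iff (small_append hw s4) (small_append s4 hw)).1 ?_
      rw [evC_append, evC_append, hjw, (evC_single a t q).2]
      exact (hkM q hqM).eq
    · refine (hc.iff (small_append sv s2) (small_append s2 sv)).1 ?_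
      rw [evC_append, evC_append _ _ _ [2], hvw, (evC_single a t q).1]
      exact ((hs.tpair h).commute_V hv1V hs.tV).eq
    · rw [Bool.eq_false_iff]
      intro e'
      refine hv1t ((hvw.symm.trans ?_).trans (evC_single a t q).1)
      exact (hc.iff sv s2).2 ((Nat.eq_of_beq_eq_true e').trans (by decide +kernel))
    · refine (hc.iff (small_append (small_append (small_append hw sv) hw) hw) (small_append s2 sv)).1 ?_
      rw [evC_append, evC_append, evC_append, evC_append _ _ _ [2], hjw, hvw, (evC_single a t q).1,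
        mul_assoc (kk * v1), ← hkinv, hkvk]
  have hrt : Commute r t := (hs.comm t hs.tV r R.2).symm
  have hrk : Commute r (evC a t q kW) := by
    have e0 : evC a t q kW = evC a t q l :=
      (hc.iff (by decide +kernel) hls).2 (by rw [hl176]; decide +kernel)
    rw [e0]
    have c1 : Commute r kk := (hkM r R.2).symm
    have c2 : Commute r t := hrt
    have c3 : Commute r v1 := (hs.comm v1 hv1V r R.2).symm
    simp only [kCand, List.mem_cons, List.not_mem_nil, or_false] at hl
    rcases hl with rfl | rfl | rfl | rfl | rfl | rfl | rfl | rfl | rfl | rfl | rfl | rfl <;>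
      simp only [evC_append, evC_nil, hvw, hjw, (evC_single a t q).1] <;>
      first
        | exact Commute.one_right r
        | exact c1 | exact c2 | exact c3
        | exact c1.mul_right c1
        | exact c2.mul_right c1
        | exact (c2.mul_right c1).mul_right c1
        | exact c3.mul_right c1
        | exact (c3.mul_right c1).mul_right c1
        | exact c2.mul_right c3
        | exact (c2.mul_right c3).mul_right c1
        | exact ((c2.mul_right c3).mul_right c1).mul_right c1
  -- the image of `e`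
  have heq : Commute (evC a t q eW) (q * z) := by
    have e' := hc.eq_of (l := eW ++ uzW) (l' := uzW ++ eW) (by decide +kernel)
    rw [evC_append, evC_append, hc.evC_uzW] at e'
    exact e'
  have hyC : r * evC a t q eW * r⁻¹ ∈ Subgroup.centralizer ({z} : Set G) := by
    refine mem_centralizer_of_commute ?_
    have := (Commute.conj_iff r).2 heq
    rwa [hruz] at this
  obtain ⟨i, hi, hy⟩ := hc.surj hyC
  have hy' : r * evC a t q eW * r⁻¹ = evC a t q (wd i) := hy
  have hwi : small (wd i) = true := small_wd hi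
  have hsub : ∀ idx, r * evC a t q (sub [2] kW eW idx) * r⁻¹ = evC a t q (sub [2] kW (wd i) idx) :=
    fun idx => conj_sub _ (by
        show r * evC a t q [2] * r⁻¹ = evC a t q [2]
        rw [(evC_single a t q).1, hrt.eq, mul_inv_cancel_right])
      (by rw [hrk.eq, mul_inv_cancel_right]) hy' idx
  have hi1906 : i = 1906 := by
    have hchk := allBelow_iff.1 y_check i hi
    simp only [yCheck, Bool.or_eq_true, Nat.beq_eq] at hchk
    refine hchk.resolve_left fun hbad => ?_
    rw [Bool.not_eq_true'] at hbad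
    refine absurd hbad ?_
    simp only [Bool.not_eq_false, Bool.and_eq_true, Nat.beq_eq]
    have ss := small_sub (w0 := [2]) (w1 := kW) rfl (by decide +kernel) hwi
    refine ⟨⟨⟨?_, ?_⟩, ?_⟩, ?_⟩
    · refine (hc.iff (small_append hwi rfl) (small_append rfl hwi)).1 ?_
      rw [evC_append, evC_append, (evC_single a t q).2, ← hy']
      have e' := hc.eq_of (l := eW ++ zW) (l' := zW ++ eW) (by decide +kernel)
      rw [evC_append, evC_append, hc.toRels.evC_zW] at e'
      have h1 := (Commute.conj_iff r).2 (show Commute (evC a t q eW) z from e')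
      rw [hrz] at h1
      exact h1.eq
    · rw [← show sc uzW = 594 by decide +kernel]
      refine (hc.iff (ss qIdx) (by decide +kernel)).1 ?_
      rw [← hsub, hc.eq_of (l := sub [2] kW eW qIdx) (l' := [4]) (by decide +kernel), (evC_single a t q).2,
        hrq, hc.evC_uzW]
    · rw [← show sc zW = 1015 by decide +kernel]
      refine (hc.iff (ss uzIdx) (by decide +kernel)).1 ?_
      rw [← hsub, hc.eq_of (l := sub [2] kW eW uzIdx) (l' := uzW) (by decide +kernel), hc.evC_uzW, hruz,
        hc.toRels.evC_zW]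
    · rw [← show sc [4] = 4 by decide +kernel]
      refine (hc.iff (ss zIdx) (by decide +kernel)).1 ?_
      rw [← hsub, hc.eq_of (l := sub [2] kW eW zIdx) (l' := zW) (by decide +kernel), hc.toRels.evC_zW,
        hrz, (evC_single a t q).2]
  refine ⟨r, ?_, hrt, hrk, ?_⟩
  · rw [pow_succ, pow_two]
    exact congrArg Subtype.val hR3
  · rw [hy', hi1906]
    exact (hc.iff (small_wd (by omega)) (by decide +kernel)).2 (by decide +kernel)

end Cfsg.Agent.Lib.HJUniq
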