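import Mathlib
import Cfsg.Agent.Lib.HJUniq.Third
import Cfsg.Agent.Lib.CosetEnum.HJL61.Enum
import Cfsg.Agent.Lib.CosetEnum.HJL121.Enum
import Cfsg.Agent.Lib.CosetEnum.HJ315.Enum
import Cfsg.Agent.Lib.CosetEnum.HJX0.Enum
import Cfsg.Agent.Lib.CosetEnum.HJX1.Enum
import Cfsg.Agent.Lib.CosetEnum.HJX2.Enum
import Cfsg.Agent.Lib.CosetEnum.HJX5.Enum
import Cfsg.Agent.Lib.CosetEnum.HJX7.Enum
import Cfsg.Agent.Lib.CosetEnum.HJX11.Enum
import Cfsg.Agent.Lib.CosetEnum.HJX13.Enum
import Cfsg.Agent.Lib.CosetEnum.HJX15.Enum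
import Cfsg.Agent.Lib.CosetEnum.HJX17.Enum
import Cfsg.Agent.Lib.CosetEnum.HJX19.Enum
import Cfsg.Agent.Lib.CosetEnum.HJX20.Enum
import Cfsg.Agent.Lib.CosetEnum.HJX35.Enum

/-!
# Uniqueness of the Hall-Janko group: the amalgam closes in one way

Owner: helper99.
-/

set_option autoImplicit false
set_option linter.style.haveILetI false

namespace Cfsg.Agent.Lib.HJUniq

open Cfsg.Agent.Lib.CosetEnum Cfsg.Agent.Lib.ExactCover
open Cfsg.Agent.Lib.HallJanko
open Cfsg.Agent.Lib.Involutions.Basic (invol_iff)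

/-- The word of `s`. -/
def sW : List ℕ := [0, 4, 1]
/-- The word of `c`. -/
def cW : List ℕ := [0, 0, 2, 1, 1]
/-- The first excluded value of `r s r s`. -/
def lW61 : List ℕ := [0, 4, 1, 2, 4, 0, 0, 2, 4, 1, 4]
/-- The second excluded value of `r s r s`. -/
def lW121 : List ℕ := [2, 0, 0, 2, 1, 4]
/-- The conjugate `x` of `z`. -/
def xW : List ℕ := [6] ++ cW ++ [6] ++ cW ++ [6] ++ zW ++ [7] ++ cW ++ [7] ++ cW ++ [7]
/-- The word of the remaining case. -/
def goodW : List ℕ := [2, 0, 0, 2, 1, 4, 1, 2, 4]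

/-- The inverse letter. -/
def ivl : ℕ → ℕ
  | 0 => 1
  | 1 => 0
  | 6 => 7
  | 7 => 6
  | g => g

/-- The inverse word. -/
def invW (l : List ℕ) : List ℕ := (l.map ivl).reverse

/-- The relators in which `r` occurs, for a given value `wl` of `r s r s`. -/
def relR (wl : List ℕ) : List (List ℕ) :=
  [[6, 6, 6], red ([6, 2, 7] ++ invW [2]), red ([6] ++ kW ++ [7] ++ invW kW),
    red ([6] ++ eW ++ [7] ++ invW yW), red (sW ++ [6] ++ sW ++ invW wl ++ [6])]

/-- The commutator of `cj` with `x`. -/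
def relX (cj : List ℕ) : List ℕ := red (cj ++ xW ++ invW cj ++ invW xW)

variable {G : Type*} [Group G] {z a t q r : G}

theorem ev_invW {a t q r : G} (ht : t * t = 1) (hq : q * q = 1) {l : List ℕ}
    (hl : ∀ g ∈ l, g < 8 ∧ g ≠ 3 ∧ g ≠ 5) :
    ev (lett a t q r) (invW l) = (ev (lett a t q r) l)⁻¹ := by
  induction l with
  | nil => simp [invW, ev_nil]
  | cons g l ih =>
    have e : lett a t q r (ivl g) = (lett a t q r g)⁻¹ := by
      obtain ⟨h8, h3, h5⟩ := hl g List.mem_cons_self
      interval_cases g <;> first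
        | (simp [ivl, lett]; done)
        | exact (inv_eq_of_mul_eq_one_right ht).symm
        | exact (inv_eq_of_mul_eq_one_right hq).symm
        | exact absurd rfl h3
        | exact absurd rfl h5
    rw [invW, List.map_cons, List.reverse_cons, ev_append, ← invW, ih fun x hx => hl x (List.mem_cons_of_mem _ hx),
      ev_cons, ev_nil, mul_one, e, ev_cons, mul_inv_rev]

theorem lift_word4 (a t q r : G) {l : List ℕ} (hl : ∀ g ∈ l, g < 8) :
    FreeGroup.lift ![a, t, q, r] (word 4 l) = ev (lett a t q r) l := by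
  refine map_lift_word (n := 4) ![a, t, q, r] (MonoidHom.id G) (lett a t q r) ?_ l hl
  refine forall_lt_two_mul (n := 4) fun i => ?_
  rw [MonoidHom.id_apply, MonoidHom.id_apply, lift_word_pos, lift_word_neg]
  fin_cases i <;> exact ⟨rfl, rfl⟩

/-- The map from a presented group on `a, t, q, r`. -/
theorem exists_hom4 (R : List (List ℕ)) (hlt : ∀ l ∈ R, ∀ g ∈ l, g < 8)
    (hR : ∀ l ∈ R, ev (lett a t q r) l = 1) :
    ∃ F : PresentedGroup (relSet 4 R) →* G,
      ∀ l, (∀ g ∈ l, g < 8) → F (el R l) = ev (lett a t q r) l := by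
  have h : ∀ x ∈ relSet 4 R, FreeGroup.lift ![a, t, q, r] x = 1 := by
    intro x hx
    obtain ⟨l, hl, rfl⟩ := List.mem_map.1 hx
    show FreeGroup.lift ![a, t, q, r] (word 4 l) = 1
    rw [lift_word4 a t q r (hlt l hl)]
    exact hR l hl
  exact ⟨PresentedGroup.toGroup h, fun l hl => lift_word4 a t q r hl⟩

theorem RProp.not_mem (hc : Chart z a t q) (hr : RProp z a t q r) (hne : q ≠ z) :
    r ∉ Subgroup.centralizer ({z} : Set G) := fun h => hne (by
  rw [← hr.rz hc, Subgroup.mem_centralizer_singleton_iff.1 h, mul_inv_cancel_right])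

/-- An enumeration in which the subgroup is everything is contradictory. -/
theorem false_of_collapse (hc : Chart z a t q) (hne : r ∉ Subgroup.centralizer ({z} : Set G))
    {IV : ℕ} {RL R : List (List ℕ)} {T : PTree}
    (he : Enumerated (stdLetters 4 IV RL R) (relSet 4 R)
      (subOf (stdLetters 4 IV RL R) (relSet 4 R) [[0], [2], [4]]) 1 T)
    (hlt : ∀ l ∈ R, ∀ g ∈ l, g < 8) (hR : ∀ l ∈ R, ev (lett a t q r) l = 1) : False := by
  obtain ⟨F, hF⟩ := exists_hom4 R hlt hR
  have htop := Subgroup.index_eq_one.1 he.index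
  rw [subOf_eq (n := 4) (R := R) (by decide)] at htop
  have hle : (Subgroup.closure {x | ∃ l ∈ [[0], [2], [4]], el (n := 4) R l = x}).map F ≤
      Subgroup.centralizer ({z} : Set G) := by
    rw [MonoidHom.map_closure, Subgroup.closure_le]
    rintro _ ⟨_, ⟨l, hl, rfl⟩, rfl⟩
    simp only [List.mem_cons, List.not_mem_nil, or_false] at hl
    rcases hl with rfl | rfl | rfl
    all_goals
      rw [hF _ (by decide), ev_lett_congr a t q r 1 (by decide)]
      exact hc.mem (by decide)
  refine hne (hle ⟨el R [6], htop ▸ Subgroup.mem_top _, ?_⟩)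
  rw [hF _ (by decide)]
  simp [ev, lett]

theorem ev_small (a t q r : G) {l : List ℕ} (hl : small l = true) :
    ev (lett a t q r) l = evC a t q l :=
  ev_lett_congr a t q r 1 (small_iff.1 hl)

theorem relWords_hold (hc : Chart z a t q) (hr : RProp z a t q r) {wl : List ℕ}
    (hwl : small wl = true ∧ ∀ g ∈ wl, g < 8 ∧ g ≠ 3 ∧ g ≠ 5)
    (hl : r * evC a t q sW * r * evC a t q sW = evC a t q wl) :
    ∀ l ∈ HJC1920.relWords ++ relR wl, ev (lett a t q r) l = 1 := by
  have hh := hc.toRels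
  have hev6 : ev (lett a t q r) [6] = r := by simp [ev, lett]
  have hev7 : ev (lett a t q r) [7] = r⁻¹ := by simp [ev, lett]
  intro l hl'
  simp only [relR, List.mem_append, List.mem_cons, List.not_mem_nil, or_false] at hl'
  rcases hl' with h | rfl | rfl | rfl | rfl | rfl
  · exact hh.ev_rel r l h
  · simpa [ev, lett, pow_succ, mul_assoc] using hr.cube
  all_goals rw [ev_red hh.ht hh.hq]
  · rw [show ([6, 2, 7] : List ℕ) = [6] ++ [2] ++ [7] from rfl, ev_append, ev_append, ev_append,
      ev_invW hh.ht hh.hq (by decide), hev6, hev7, ev_small a t q r (by decide), (evC_single a t q).1,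
      hr.rt.eq, mul_inv_cancel_right, mul_inv_cancel]
  · rw [ev_append, ev_append, ev_append, ev_invW hh.ht hh.hq (by decide), hev6, hev7,
      ev_small a t q r (by decide), hr.rk.eq, mul_inv_cancel_right, mul_inv_cancel]
  · rw [ev_append, ev_append, ev_append, ev_invW hh.ht hh.hq (by decide), hev6, hev7,
      ev_small a t q r (by decide), ev_small a t q r (l := yW) (by decide), hr.re, mul_inv_cancel]
  · rw [ev_append, ev_append, ev_append, ev_append, ev_invW hh.ht hh.hq hwl.2, hev6,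
      ev_small a t q r (l := sW) (by decide), ev_small a t q r hwl.1, ← hl]
    group

theorem rels_hold (hc : Chart z a t q) (hr : RProp z a t q r)
    (hl : r * evC a t q sW * r * evC a t q sW = evC a t q kW) {cj : List ℕ}
    (hcx : Commute (evC a t q cj) (ev (lett a t q r) xW)) (R : List (List ℕ))
    (hR : small cj = true ∧ (∀ g ∈ cj, g < 8 ∧ g ≠ 3 ∧ g ≠ 5) ∧
      R = HJC1920.relWords ++ relR kW ++ [relX cj]) :
    ∀ l ∈ R, ev (lett a t q r) l = 1 := by
  obtain ⟨hs, hcj, rfl⟩ := hR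
  intro l hl'
  rw [List.mem_append, List.mem_singleton] at hl'
  rcases hl' with h | rfl
  · exact relWords_hold hc hr (by decide) hl l h
  · rw [relX, ev_red hc.ht hc.hq, ev_append, ev_append, ev_append, ev_invW hc.ht hc.hq hcj,
      ev_invW hc.ht hc.hq (by decide), ev_small a t q r hs, hcx.eq]
    group

/-- The test determining `r s r s`. -/
noncomputable def lCheck (j : ℕ) : Bool :=
  (fun w =>
    !(Nat.beq (sc (w ++ [4])) (sc ([4] ++ w)) &&
        Nat.beq (sc (w ++ [2])) (sc (sub [2] kW yW [1, 0, 1, 1] ++ w)) &&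
        Nat.beq (sc (w ++ kW)) (sc (sub [2] kW yW [1] ++ w)) &&
        Nat.beq (sc (w ++ eW)) (sc (sub [2] kW yW [2, 1, 1, 0, 1] ++ w))) ||
      [176, 1863, 369, 1696].any (Nat.beq j)) (wd j)

theorem l_check : allBelow 1920 lCheck = true := by decide +kernel

theorem l_facts (hc : Chart z a t q) :
    evC a t q sW * evC a t q sW = 1 ∧ evC a t q sW * z * (evC a t q sW)⁻¹ = z ∧
      evC a t q sW * q * (evC a t q sW)⁻¹ = q * z := by
  have h2 : evC a t q sW * evC a t q sW = 1 := by
    rw [← evC_append, hc.eq_of (l := sW ++ sW) (l' := []) (by decide +kernel), evC_nil]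
  refine ⟨h2, ?_, ?_⟩ <;> rw [inv_eq_of_mul_eq_one_right h2]
  · have e := hc.eq_of (l := sW ++ zW ++ sW) (l' := zW) (by decide +kernel)
    rwa [evC_append, evC_append, hc.toRels.evC_zW] at e
  · have e := hc.eq_of (l := sW ++ [4] ++ sW) (l' := uzW) (by decide +kernel)
    rwa [evC_append, evC_append, (evC_single a t q).2, hc.evC_uzW] at e

theorem conj_l (hc : Chart z a t q) (hr : RProp z a t q r) (g idx1 idx2 : List ℕ)
    (h1 : (small (sW ++ g ++ sW) && small (sub [2] kW eW idx1) &&
      Nat.beq (sc (sW ++ g ++ sW)) (sc (sub [2] kW eW idx1))) = true)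
    (h2 : (small (sW ++ sub [2] kW yW idx1 ++ sW) && small (sub [2] kW eW idx2) &&
      Nat.beq (sc (sW ++ sub [2] kW yW idx1 ++ sW)) (sc (sub [2] kW eW idx2))) = true) :
    r * evC a t q sW * r * evC a t q sW * evC a t q g =
      evC a t q (sub [2] kW yW idx2) * (r * evC a t q sW * r * evC a t q sW) := by
  have e1 := hc.eq_of h1
  have e2 := hc.eq_of h2
  rw [evC_append, evC_append] at e1 e2
  obtain ⟨hs2, -, -⟩ := l_facts hc
  have hsi := inv_eq_of_mul_eq_one_right hs2
  rw [← mul_inv_eq_iff_eq_mul, ← hr.conj_idx idx2, ← e2, ← hr.conj_idx idx1, ← e1]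
  generalize evC a t q sW = s at hs2 hsi ⊢
  simp only [mul_inv_rev, hsi]
  group

/-- There is an element `r` with `r s r s = k`. -/
theorem exists_good [Finite G] {Q : Subgroup G} {v : Fin 5 → G} (h : Setting z Q v t)
    (hc : Chart z a t (v 0)) :
    ∃ r, RProp z a t (v 0) r ∧
      r * evC a t (v 0) sW * r * evC a t (v 0) sW = evC a t (v 0) kW := by
  obtain ⟨r, hr⟩ := exists_r h hc
  set q := v 0 with hq
  have hne : q ≠ z := h.toFive.u_ne_z 0
  have hfu := hr.not_mem hc hne
  obtain ⟨hs2, hsz, hsq⟩ := l_facts hc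
  have hconjz : r * evC a t q sW * r * evC a t q sW * z *
      (r * evC a t q sW * r * evC a t q sW)⁻¹ = z := by
    calc r * evC a t q sW * r * evC a t q sW * z * (r * evC a t q sW * r * evC a t q sW)⁻¹
        = r * (evC a t q sW * (r * (evC a t q sW * z * (evC a t q sW)⁻¹) * r⁻¹) * (evC a t q sW)⁻¹) * r⁻¹ := by
          group
      _ = z := by rw [hsz, hr.rz hc, hsq, hr.ruz hc]
  have hconjq : r * evC a t q sW * r * evC a t q sW * q *
      (r * evC a t q sW * r * evC a t q sW)⁻¹ = q := by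
    calc r * evC a t q sW * r * evC a t q sW * q * (r * evC a t q sW * r * evC a t q sW)⁻¹
        = r * (evC a t q sW * (r * (evC a t q sW * q * (evC a t q sW)⁻¹) * r⁻¹) * (evC a t q sW)⁻¹) * r⁻¹ := by
          group
      _ = q := by rw [hsq, hr.ruz hc, hsz, hr.rz hc]
  obtain ⟨j, hj, hjl⟩ := hc.surj (Subgroup.mem_centralizer_singleton_iff.2 (mul_inv_eq_iff_eq_mul.1 hconjz))
  have hw : small (wd j) = true := small_wd hj
  have hjl' : evC a t q (wd j) = r * evC a t q sW * r * evC a t q sW := hjl.symm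
  have hchk := allBelow_iff.1 l_check j hj
  simp only [lCheck, Bool.or_eq_true, List.any_eq_true, Nat.beq_eq] at hchk
  obtain ⟨j', hj', hjj⟩ : ∃ x ∈ [176, 1863, 369, 1696], j = x := by
    refine hchk.resolve_left fun hbad => ?_
    rw [Bool.not_eq_true'] at hbad
    refine absurd hbad ?_
    simp only [Bool.not_eq_false, Bool.and_eq_true, Nat.beq_eq]
    have sy := fun idx => small_sub (w0 := [2]) (w1 := kW) (w2 := yW) rfl (by decide) (by decide) idx
    refine ⟨⟨⟨?_, ?_⟩, ?_⟩, ?_⟩
    · refine (hc.iff (small_append hw rfl) (small_append rfl hw)).1 ?_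
      rw [evC_append, evC_append, hjl', (evC_single a t q).2]
      exact mul_inv_eq_iff_eq_mul.1 hconjq
    all_goals
      refine (hc.iff (small_append hw (by decide)) (small_append (sy _) hw)).1 ?_
      rw [evC_append, evC_append, hjl']
    · exact conj_l hc hr [2] [2, 0] [1, 0, 1, 1] (by decide +kernel) (by decide +kernel)
    · exact conj_l hc hr kW [1] [1] (by decide +kernel) (by decide +kernel)
    · exact conj_l hc hr eW [0, 2, 0] [2, 1, 1, 0, 1] (by decide +kernel) (by decide +kernel)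
  subst hjj
  simp only [List.mem_cons, List.not_mem_nil, or_false] at hj'
  rcases hj' with rfl | rfl | rfl | rfl
  · exact ⟨r, hr, hjl'.symm.trans (hc.eq_of (by decide +kernel))⟩
  · refine (false_of_collapse hc hfu HJL61.enum (by decide +kernel) ?_).elim
    rw [show HJL61.relWords = HJC1920.relWords ++ relR lW61 by decide +kernel]
    exact relWords_hold hc hr (by decide) (hjl'.symm.trans (hc.eq_of (by decide +kernel)))
  · refine (false_of_collapse hc hfu HJL121.enum (by decide +kernel) ?_).elim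
    rw [show HJL121.relWords = HJC1920.relWords ++ relR lW121 by decide +kernel]
    exact relWords_hold hc hr (by decide) (hjl'.symm.trans (hc.eq_of (by decide +kernel)))
  -- replace `r` by its conjugate under `q`
  have hqq : q⁻¹ = q := inv_eq_of_mul_eq_one_right hc.toRels.hq
  have hcq : ∀ l, small l = true → sc ([4] ++ l) = sc (l ++ [4]) → Commute q (evC a t q l) := by
    intro l hl e
    have e' := (hc.iff (small_append rfl hl) (small_append hl rfl)).2 e
    rw [evC_append, evC_append, (evC_single a t q).2] at e'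
    exact e'
  have cqt : Commute q t := by
    have := hcq [2] rfl (by decide +kernel)
    rwa [(evC_single a t q).1] at this
  have cqk := hcq kW (by decide) (by decide +kernel)
  have cqe := hcq eW (by decide) (by decide +kernel)
  have cqy := hcq yW (by decide) (by decide +kernel)
  refine ⟨q * r * q⁻¹, ⟨?_, ?_, ?_, ?_⟩, ?_⟩
  · rw [conj_pow, hr.cube, mul_one, mul_inv_cancel]
  · exact (cqt.mul_left hr.rt).mul_left cqt.inv_left
  · exact (cqk.mul_left hr.rk).mul_left cqk.inv_left
  · calc q * r * q⁻¹ * evC a t q eW * (q * r * q⁻¹)⁻¹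
        = q * (r * (q⁻¹ * evC a t q eW * q) * r⁻¹) * q⁻¹ := by group
      _ = evC a t q yW := by
        rw [mul_assoc q⁻¹, cqe.symm.eq, ← mul_assoc q⁻¹, inv_mul_cancel, one_mul, hr.re, cqy.eq,
          mul_inv_cancel_right]
  · have e1 := hc.eq_of (l := [4] ++ sW ++ [4]) (l' := sW ++ zW) (by decide +kernel)
    rw [evC_append, evC_append, evC_append, (evC_single a t q).2, hc.toRels.evC_zW] at e1
    have e2 := hc.eq_of (l := wd 1696 ++ uzW) (l' := kW) (by decide +kernel)
    rw [evC_append, hc.evC_uzW, hjl'] at e2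
    have e3 : z * r = r * (q * z) := by rw [← mul_inv_eq_iff_eq_mul.1 (hr.ruz hc)]
    have e4 : z * evC a t q sW = evC a t q sW * z := (mul_inv_eq_iff_eq_mul.1 hsz).symm
    rw [hqq, ← e2]
    generalize evC a t q sW = s at e1 e3 e4 hconjq ⊢
    have e5 : q * (r * s * r * s) = r * s * r * s * q := (mul_inv_eq_iff_eq_mul.1 hconjq).symm
    calc q * r * q * s * (q * r * q) * s = q * r * (q * s * q) * r * q * s := by group
      _ = q * r * s * (z * r) * q * s := by rw [e1]; group
      _ = q * r * s * r * ((q * z) * q) * s := by rw [e3]; group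
      _ = q * r * s * r * (z * s) := by
        rw [show q * z * q = z by rw [← hc.toRels.zq.eq, mul_assoc, hc.toRels.hq, mul_one], mul_assoc]
      _ = q * (r * s * r * s) * z := by rw [e4]; group
      _ = r * s * r * s * (q * z) := by rw [e5]; group

/-- Involutions of `C(z)` and products with `k` among the chosen elements. -/
def witList : List (ℕ × List ℕ) := [
    (3, [0]), (862, [1, 1, 0, 1]), (1272, [1, 0, 1, 1]), (104, [0]), (25, [0, 1]), (1054, [1, 0]),
    (703, [0]), (470, [0, 1, 0, 1, 1, 0]), (114, [0, 1, 1, 0, 1, 0]), (601, [1, 1, 0, 1]), (731, [0, 1, 0, 1, 1, 0]), (155, [1, 0, 1, 1, 0, 1, 0, 1, 1]),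
    (19, [1, 0, 1, 1]), (140, [0, 1, 1, 0, 1, 0]), (929, [1, 0, 1, 1, 0, 1, 0, 1, 1]), (1015, [0]), (1392, [1, 0, 1, 0, 1]), (1911, [0, 1, 0, 1, 1]),
    (1919, [0, 1, 1, 0, 1]), (1584, [0]), (1473, [0, 1]), (1918, [1, 0]), (1899, [1, 0, 1, 0, 1]), (1913, [0, 1, 0, 1, 0, 1, 1, 0, 1]),
    (1848, [1, 0, 1, 0, 1, 0, 1, 1, 0]), (1912, [0, 1, 0, 1, 1]), (1900, [0, 1, 0, 1, 0, 1, 1, 0, 1]), (1888, [0, 1, 0, 1, 0, 1, 0, 1, 0, 1]), (1370, [0, 1, 1, 0, 1]), (1594, [1, 0, 1, 0, 1, 0, 1, 1, 0]),
    (1915, [0, 1, 0, 1, 0, 1, 0, 1, 0, 1]), (4, [0]), (13, [1, 0, 1, 0, 1]), (1273, [0, 1, 0, 1, 1]), (1608, [0, 1, 1, 0, 1]), (594, [0]),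
    (1014, [1, 0, 1, 0, 1]), (1839, [0, 1, 0, 1, 1]), (1910, [0, 1, 1, 0, 1]), (22, [0]), (1146, [1, 0, 1, 0, 1]), (1024, [0, 1, 0, 1, 1]),
    (52, [0, 1, 1, 0, 1]), (215, [0]), (1782, [1, 0, 1, 0, 1]), (1726, [0, 1, 0, 1, 1]), (939, [0, 1, 1, 0, 1]), (479, [0]),
    (220, [0, 1]), (1731, [1, 0]), (563, [0]), (596, [0, 1]), (1736, [1, 0]), (111, [0, 1, 0, 1, 1, 0, 1, 0, 1, 1]),
    (237, [0, 1, 0, 1, 1, 0, 1]), (333, [0, 1, 0, 1, 0, 1, 0, 1, 0, 1]), (1595, [1, 0, 1, 1, 0, 1, 0, 1, 1]), (576, [0, 1, 0, 1, 1, 0, 1, 0, 1, 1]), (991, [0, 1, 0, 1, 1, 0, 1]), (1694, [1, 0, 1, 1, 0, 1, 0, 1, 1]),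
    (1905, [0, 1, 0, 1, 0, 1, 0, 1, 0, 1]), (1494, [0]), (1341, [0, 1, 0, 1, 1, 0]), (779, [0, 1, 1, 0, 1, 0]), (1513, [1, 0, 1, 0, 1]), (1635, [0, 1, 0, 1, 0, 1, 1, 0, 1]),
    (1320, [1, 0, 1, 0, 1, 0, 1, 1, 0]), (573, [0]), (1673, [0, 1, 0, 1, 1, 0]), (992, [0, 1, 1, 0, 1, 0]), (507, [1, 0, 1, 0, 1]), (1643, [0, 1, 0, 1, 0, 1, 1, 0, 1]),
    (1246, [1, 0, 1, 0, 1, 0, 1, 1, 0]), (675, [1, 0, 1, 0, 1]), (861, [0, 1, 0, 1, 1, 0, 1]), (1763, [1, 0, 1, 0, 1]), (619, [1, 0, 1, 0, 1]), (1230, [0, 1, 0, 1, 1, 0, 1]),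
    (1741, [1, 0, 1, 0, 1]), (146, [0, 1, 0, 1, 1, 0, 1, 0, 1, 1]), (1706, [0, 1, 0, 1, 1, 0]), (254, [0, 1, 1, 0, 1, 0]), (306, [1, 0, 1, 0, 1, 0, 1, 1, 0]), (699, [0, 1, 0, 1, 1, 0, 1, 0, 1, 1]),
    (1917, [0, 1, 0, 1, 1, 0]), (1639, [1, 0, 1, 0, 1, 0, 1, 1, 0]), (1132, [0, 1, 1, 0, 1, 0]), (1430, [1, 1, 0, 1]), (1523, [0, 1, 0, 1, 1, 0]), (760, [1, 0, 1, 1, 0, 1, 0, 1, 1]),
    (1717, [0, 1, 0, 1, 1]), (1543, [0, 1, 0, 1, 0, 1, 1, 0, 1]), (1448, [0, 1, 0, 1, 0, 1, 0, 1, 0, 1]), (1826, [1, 1, 0, 1]), (1359, [0, 1, 0, 1, 1, 0]), (1841, [1, 0, 1, 1, 0, 1, 0, 1, 1]),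
    (1817, [0, 1, 0, 1, 1]), (1806, [0, 1, 0, 1, 0, 1, 1, 0, 1]), (1844, [0, 1, 0, 1, 0, 1, 0, 1, 0, 1]), (1835, [0, 1, 0, 1, 1]), (1885, [0, 1, 0, 1, 1, 0]), (1810, [0, 1, 0, 1, 1]),
    (1818, [0, 1, 0, 1, 1]), (1882, [0, 1, 0, 1, 1, 0]), (1461, [0, 1, 0, 1, 1]), (1909, [0, 1, 1, 0, 1]), (459, [0, 1, 1, 0, 1, 0]), (963, [0, 1, 1, 0, 1]),
    (1902, [0, 1, 1, 0, 1]), (1096, [0, 1, 1, 0, 1, 0]), (438, [0, 1, 1, 0, 1]), (1853, [0, 1, 1, 0, 1]), (1343, [1, 0, 1, 0, 1, 0, 1, 1, 0]), (1100, [0, 1, 0, 1, 0, 1, 0, 1, 0, 1]),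
    (1850, [1, 0, 1, 1]), (972, [0, 1, 1, 0, 1, 0]), (1388, [1, 0, 1, 1, 0, 1, 0, 1, 1]), (208, [1, 0, 1, 1]), (600, [0, 1, 1, 0, 1, 0]), (1660, [1, 0, 1, 1, 0, 1, 0, 1, 1]),
    (531, [0, 1, 1, 0, 1]), (693, [1, 0, 1, 0, 1, 0, 1, 1, 0]), (1668, [0, 1, 0, 1, 0, 1, 0, 1, 0, 1]), (28, [0, 1, 0, 1, 1, 0, 1, 0, 1, 1]), (68, [0, 1, 1, 0, 1, 0]), (859, [0, 1, 0, 1, 0, 1, 1, 0, 1]),
    (1170, [0, 1, 0, 1, 1, 0]), (225, [0, 1, 0, 1, 1, 0, 1, 0, 1, 1]), (1003, [0, 1, 1, 0, 1, 0]), (1624, [0, 1, 0, 1, 1, 0]), (1797, [0, 1, 0, 1, 0, 1, 1, 0, 1])]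

/-- The chosen elements. -/
def chosenW : List (List ℕ) := [[2],
    [0, 0, 2, 1, 1],
    [2, 0, 0, 2, 1, 1, 2],
    [0, 4, 1, 4, 0, 4, 1, 4],
    [4, 0, 4, 0, 2, 1, 4, 1, 4],
    [4],
    [0, 4, 1, 4, 0, 4, 1],
    [0, 4, 1],
    [4, 0, 4, 1, 4],
    [0, 0, 2, 1, 4, 1, 4],
    [0, 4, 0, 2, 1, 4, 1],
    [2, 0, 0, 2, 1, 4, 1, 2, 4],
    [0, 4, 0, 4, 1, 1, 2]]

/-- The test for involutions. -/
noncomputable def iCheck (j : ℕ) : Bool :=
  (fun w => !(!Nat.beq j 0 && Nat.beq (sc (w ++ w)) 0) ||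
    witList.any fun p => Nat.beq p.1 j &&
      chosenW.any fun l => Nat.beq (sc (sub w kW [] p.2)) (sc l)) (wd j)

theorem i_check : allBelow 1920 iCheck = true := by decide +kernel

/-- The test excluding elements of order five normalised by `k`. -/
noncomputable def fCheck (j : ℕ) : Bool :=
  (fun w => !(!Nat.beq j 0 && Nat.beq (sc (w ++ w ++ w ++ w ++ w)) 0) ||
    !([[], w, w ++ w, w ++ w ++ w, w ++ w ++ w ++ w].any fun p =>
      Nat.beq (sc (kW ++ w ++ kW ++ kW)) (sc p))) (wd j)

theorem f_check : allBelow 1920 fCheck = true := by decide +kernel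

/-- A chosen element commutes with `x`. -/
theorem exists_chosen [Finite G] (hc : Chart z a t q) (hr : RProp z a t q r)
    (hG : Nat.card G = 604800) :
    ∃ l ∈ chosenW, Commute (evC a t q l) (ev (lett a t q r) xW) := by
  classical
  set C := Subgroup.centralizer ({z} : Set G) with hC
  set x := ev (lett a t q r) xW with hx
  set c := evC a t q cW with hcdef
  set k := evC a t q kW with hk
  set p := r * c * r * c * r with hp
  have hc2 : c * c = 1 := by
    rw [hcdef, ← evC_append, hc.eq_of (l := cW ++ cW) (l' := []) (by decide +kernel), evC_nil]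
  have hci : c⁻¹ = c := inv_eq_of_mul_eq_one_right hc2
  have hxp : x = p * z * p⁻¹ := by
    rw [hx, xW]
    simp only [ev_append]
    rw [ev_small a t q r (l := cW) (by decide), ev_small a t q r (l := zW) (by decide), hc.toRels.evC_zW,
      show ev (lett a t q r) [6] = r by simp [ev, lett], show ev (lett a t q r) [7] = r⁻¹ by simp [ev, lett],
      ← hcdef, hp]
    simp only [mul_inv_rev, hci, mul_assoc]
  have hk3 : k * k * k = 1 := by
    rw [hk, ← evC_append, ← evC_append, hc.eq_of (l := kW ++ kW ++ kW) (l' := []) (by decide +kernel), evC_nil]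
  have hkC : k ∈ C := hc.mem (by decide)
  have hcz : ∀ y ∈ C, Commute y z := fun y hy => Subgroup.mem_centralizer_singleton_iff.1 hy
  have hkx : Commute k x := by
    have ck1 : c * k * c = k * k := by
      rw [hcdef, hk, ← evC_append, ← evC_append, ← evC_append]
      exact hc.eq_of (by decide +kernel)
    have ck2 : c * (k * k) * c = k := by
      rw [← ck1]
      calc c * (c * k * c) * c = c * c * k * (c * c) := by group
        _ = k := by rw [hc2, one_mul, mul_one]
    have h1 : p⁻¹ * k * p = k := by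
      calc p⁻¹ * k * p = r⁻¹ * (c * (r⁻¹ * (c * (r⁻¹ * (k * r)) * c) * r) * c) * r := by
            rw [hp]; simp only [mul_inv_rev, hci]; group
        _ = r⁻¹ * (c * (r⁻¹ * (c * k * c) * r) * c) * r := by rw [← hr.rk.eq, inv_mul_cancel_left]
        _ = r⁻¹ * (c * (k * k) * c) * r := by
            rw [ck1, mul_assoc r⁻¹ (k * k), ← (hr.rk.mul_right hr.rk).eq, inv_mul_cancel_left]
        _ = k := by rw [ck2, mul_assoc, ← hr.rk.eq, inv_mul_cancel_left]
    have h2 := (Commute.conj_iff p).2 (hcz k hkC)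
    rw [← hxp, show p * k * p⁻¹ = p * (p⁻¹ * k * p) * p⁻¹ by rw [h1]] at h2
    rwa [show p * (p⁻¹ * k * p) * p⁻¹ = k by group] at h2
  set S := C ⊓ Subgroup.centralizer ({x} : Set G) with hS
  have hkS : k ∈ S := ⟨hkC, mem_centralizer_of_commute hkx⟩
  have hCx : Nat.card (Subgroup.centralizer ({x} : Set G)) = 1920 := by
    rw [show Subgroup.centralizer ({x} : Set G) = C.map (MulAut.conj p).toMonoidHom by
      ext y
      rw [Subgroup.mem_map_equiv, MulAut.conj_symm_apply, hC, Subgroup.mem_centralizer_singleton_iff,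
        Subgroup.mem_centralizer_singleton_iff, hxp]
      constructor
      · intro e
        calc p⁻¹ * y * p * z = p⁻¹ * (y * (p * z * p⁻¹)) * p := by group
          _ = z * (p⁻¹ * y * p) := by rw [e]; group
      · intro e
        calc y * (p * z * p⁻¹) = p * (p⁻¹ * y * p * z) * p⁻¹ := by group
          _ = p * z * p⁻¹ * y := by rw [e]; group,
      Subgroup.card_map_of_injective (MulAut.conj p).injective]
    exact hc.card
  have h7 : 7 ≤ Nat.card S := by
    have i1 : C.index = 315 := by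
      have := Subgroup.card_mul_index C
      rw [hc.card, hG] at this
      omega
    have i2 : (Subgroup.centralizer ({x} : Set G)).index = 315 := by
      have := Subgroup.card_mul_index (Subgroup.centralizer ({x} : Set G))
      rw [hCx, hG] at this
      omega
    have i3 : S.index ≤ C.index * (Subgroup.centralizer ({x} : Set G)).index :=
      Subgroup.index_inf_le
    rw [i1, i2] at i3
    have i4 := Subgroup.card_mul_index S
    rw [hG] at i4
    by_contra hlt
    have := Nat.mul_le_mul (show Nat.card S ≤ 6 by omega) i3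
    omega
  have hdvd : Nat.card S ∣ 1920 := hc.card ▸ Subgroup.card_dvd_of_le inf_le_left
  obtain ⟨g, hgS, hg⟩ : ∃ g ∈ S, orderOf g = 2 := by
    by_contra hno
    have hodd : Nat.Coprime (Nat.card S) 2 := by
      refine ((Nat.prime_two.coprime_iff_not_dvd).2 fun h2 => ?_).symm
      haveI : Fact (Nat.Prime 2) := ⟨Nat.prime_two⟩
      obtain ⟨g, hg⟩ := exists_prime_orderOf_dvd_card' (G := S) 2 h2
      exact hno ⟨g.1, g.2, by rw [Subgroup.orderOf_coe, hg]⟩
    have h15 : Nat.card S ∣ 15 :=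
      (Nat.Coprime.pow_right 7 hodd).dvd_of_dvd_mul_left (show Nat.card S ∣ 2 ^ 7 * 15 from hdvd)
    have hS15 : Nat.card S = 15 := by
      have hle := Nat.le_of_dvd (by norm_num) h15
      generalize Nat.card S = n at h7 h15 hle ⊢
      interval_cases n <;> omega
    haveI : Fact (Nat.Prime 5) := ⟨by norm_num⟩
    obtain ⟨f, hf⟩ := exists_prime_orderOf_dvd_card' (G := S) 5 (by rw [hS15]; norm_num)
    haveI hn : (Subgroup.zpowers f).Normal := by
      refine Subgroup.normal_of_index_eq_minFac_card ?_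
      have := Subgroup.card_mul_index (Subgroup.zpowers f)
      rw [Nat.card_zpowers, hf, hS15] at this
      rw [hS15, show Nat.minFac 15 = 3 by norm_num]
      omega
    have hkf := hn.conj_mem f (Subgroup.mem_zpowers f) ⟨k, hkS⟩
    rw [mem_zpowers_iff_mem_range_orderOf, hf] at hkf
    obtain ⟨b, hb, hkb⟩ := Finset.mem_image.1 hkf
    rw [Finset.mem_range] at hb
    obtain ⟨j, hj, hjf⟩ := hc.surj (show (f : G) ∈ C from f.2.1)
    have hw : small (wd j) = true := small_wd hj
    have hjf' : evC a t q (wd j) = (f : G) := hjf.symm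
    have hf5 : ((f : G)) ^ 5 = 1 := by
      rw [← hf, ← Subgroup.orderOf_coe, pow_orderOf_eq_one]
    have hkinv : k⁻¹ = k * k := inv_eq_of_mul_eq_one_right (by rw [← mul_assoc, hk3])
    have hkb' : k * (f : G) * (k * k) = (f : G) ^ b := by
      rw [← hkinv]
      exact (congrArg Subtype.val hkb).symm
    have hchk := allBelow_iff.1 f_check j hj
    simp only [fCheck, Bool.or_eq_true] at hchk
    rcases hchk with e | e
    · rw [Bool.not_eq_true'] at e
      refine absurd e ?_
      simp only [Bool.not_eq_false, Bool.and_eq_true, Bool.not_eq_true', Nat.beq_eq]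
      refine ⟨?_, ?_⟩
      · rw [Bool.eq_false_iff]
        intro e0
        rw [Nat.eq_of_beq_eq_true e0] at hjf'
        have h1 : (f : G) = 1 := hjf'.symm.trans
          ((hc.iff (small_wd (by omega)) (l' := []) rfl).2 (by decide +kernel))
        rw [← Subgroup.orderOf_coe, h1, orderOf_one] at hf
        omega
      · have e' : evC a t q (wd j ++ wd j ++ wd j ++ wd j ++ wd j) = evC a t q [] := by
          simp only [evC_append, hjf', evC_nil]
          simpa [pow_succ] using hf5
        exact (hc.iff (small_append (small_append (small_append (small_append hw hw) hw) hw) hw) rfl).1 e'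
    · rw [Bool.not_eq_true'] at e
      refine absurd e ?_
      have hkw : small kW = true := by decide
      have s2 := small_append hw hw
      have sk := small_append (small_append (small_append hkw hw) hkw) hkw
      simp only [Bool.not_eq_false, List.any_cons, List.any_nil, Bool.or_false, Bool.or_eq_true, Nat.beq_eq]
      have key : evC a t q (kW ++ wd j ++ kW ++ kW) = (f : G) ^ b := by
        rw [evC_append, evC_append, evC_append, hjf', mul_assoc (evC a t q kW * (f : G))]
        exact hkb'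
      interval_cases b
      · left
        exact (hc.iff sk rfl).1 (by rw [key, pow_zero, evC_nil])
      · right; left
        exact (hc.iff sk hw).1 (by rw [key, pow_one, hjf'])
      · right; right; left
        exact (hc.iff sk s2).1 (by rw [key, pow_two, evC_append, hjf'])
      · right; right; right; left
        exact (hc.iff sk (small_append s2 hw)).1 (by rw [key, pow_succ, pow_two, evC_append, evC_append, hjf'])
      · right; right; right; right
        exact (hc.iff sk (small_append (small_append s2 hw) hw)).1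
          (by rw [key, pow_succ, pow_succ, pow_two, evC_append, evC_append, evC_append, hjf'])
  obtain ⟨j, hj, hjg⟩ := hc.surj hgS.1
  have hw : small (wd j) = true := small_wd hj
  have hjg' : evC a t q (wd j) = g := hjg.symm
  have hchk := allBelow_iff.1 i_check j hj
  simp only [iCheck, Bool.or_eq_true, List.any_eq_true, Bool.and_eq_true, Nat.beq_eq] at hchk
  rcases hchk with e | ⟨w, -, -, l, hl, hsl⟩
  · exfalso
    rw [Bool.not_eq_true'] at e
    refine absurd e ?_
    simp only [Bool.not_eq_false, Bool.and_eq_true, Bool.not_eq_true', Nat.beq_eq]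
    obtain ⟨hg2, hg1⟩ := invol_iff.1 hg
    refine ⟨?_, ?_⟩
    · rw [Bool.eq_false_iff]
      intro e0
      rw [Nat.eq_of_beq_eq_true e0] at hjg'
      exact hg1 (hjg'.symm.trans ((hc.iff (small_wd (by omega)) (l' := []) rfl).2 (by decide +kernel)))
    · exact ((hc.iff (small_append hw hw) (l' := []) rfl).1
        (by rw [evC_append, hjg', hg2, evC_nil])).trans (by decide +kernel)
  refine ⟨l, hl, ?_⟩
  have hls : small l = true := (by decide : ∀ l ∈ chosenW, small l = true) l hl
  rw [← (hc.iff (small_sub hw (by decide) rfl w.2) hls).2 hsl]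
  have hgx : Commute g x := commute_of_mem hgS.2
  generalize w.2 = idx
  induction idx with
  | nil => exact Commute.one_left x
  | cons i idx ih =>
    rw [sub, List.flatMap_cons, evC_append]
    refine Commute.mul_left ?_ ih
    rcases i with _ | _ | _ | i
    · show Commute (evC a t q (wd j)) x
      rw [hjg']
      exact hgx
    · exact hkx
    · exact Commute.one_left x
    · exact Commute.one_left x

/-- The amalgam satisfies the relators of the presented group of index `315`. -/
theorem exists_rels315 [Finite G] {Q : Subgroup G} {v : Fin 5 → G} (h : Setting z Q v t)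
    (hc : Chart z a t (v 0)) :
    ∃ r, RProp z a t (v 0) r ∧ ∀ l ∈ HJ315.relWords, ev (lett a t (v 0) r) l = 1 := by
  obtain ⟨r, hr, hl⟩ := exists_good h hc
  have hfu := hr.not_mem hc (h.toFive.u_ne_z 0)
  obtain ⟨cj, hcj, hcx⟩ := exists_chosen hc hr h.card_group
  refine ⟨r, ?_⟩
  simp only [chosenW, List.mem_cons, List.not_mem_nil, or_false] at hcj
  rcases hcj with rfl | rfl | rfl | rfl | rfl | rfl | rfl | rfl | rfl | rfl | rfl | rfl | rfl
  · exact (false_of_collapse hc hfu HJX0.enum (by decide +kernel)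
      (rels_hold hc hr hl hcx HJX0.relWords (by decide +kernel))).elim
  · exact (false_of_collapse hc hfu HJX1.enum (by decide +kernel)
      (rels_hold hc hr hl hcx HJX1.relWords (by decide +kernel))).elim
  · exact (false_of_collapse hc hfu HJX2.enum (by decide +kernel)
      (rels_hold hc hr hl hcx HJX2.relWords (by decide +kernel))).elim
  · exact (false_of_collapse hc hfu HJX5.enum (by decide +kernel)
      (rels_hold hc hr hl hcx HJX5.relWords (by decide +kernel))).elim
  · exact (false_of_collapse hc hfu HJX7.enum (by decide +kernel)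
      (rels_hold hc hr hl hcx HJX7.relWords (by decide +kernel))).elim
  · exact (false_of_collapse hc hfu HJX11.enum (by decide +kernel)
      (rels_hold hc hr hl hcx HJX11.relWords (by decide +kernel))).elim
  · exact (false_of_collapse hc hfu HJX13.enum (by decide +kernel)
      (rels_hold hc hr hl hcx HJX13.relWords (by decide +kernel))).elim
  · exact (false_of_collapse hc hfu HJX15.enum (by decide +kernel)
      (rels_hold hc hr hl hcx HJX15.relWords (by decide +kernel))).elim
  · exact (false_of_collapse hc hfu HJX17.enum (by decide +kernel)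
      (rels_hold hc hr hl hcx HJX17.relWords (by decide +kernel))).elim
  · exact (false_of_collapse hc hfu HJX19.enum (by decide +kernel)
      (rels_hold hc hr hl hcx HJX19.relWords (by decide +kernel))).elim
  · exact (false_of_collapse hc hfu HJX20.enum (by decide +kernel)
      (rels_hold hc hr hl hcx HJX20.relWords (by decide +kernel))).elim
  · exact ⟨hr, rels_hold hc hr hl hcx HJ315.relWords (by decide +kernel)⟩
  · exact (false_of_collapse hc hfu HJX35.enum (by decide +kernel)
      (rels_hold hc hr hl hcx HJX35.relWords (by decide +kernel))).elim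

end Cfsg.Agent.Lib.HJUniq
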