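import Mathlib.Init

/-! Certificate data: the bijection between the 315 cosets and the 315 reflections, and words. -/

set_option autoImplicit false

namespace Cfsg.Agent.Lib.HJUniq

/-- The bijection, packed with 9 bits for a point. -/
def piCode : Nat := 0x2820a158504a0c1485a7a181387a4a621d8fa8620939227e129790086461f8e2527420990726c969aa5636168ba7230177f26e04198087a73290d4b935139c4b23d37953881b118d266501b93a75fb2b81bd05a188a475312d393ed4f127fb7a00a2823f1f0102038e32f143bb62ce1534d2422e77b706f227a8bd7ad73fcbe4c306db9e2af979a1a1d25730c5d073703b822fa3db617c801a3581ee406155ec841c34dd27d78215a43a30b219c352b3021b0872a086c331f20666c53a3b1e42c281ea61076fa0c825a3e3a9ba78608f5eea3323ac72cd3f310ee6767a958e3225b55485d6502cccd41d95d780a26a3084cb15180bec61f988d0d91594ca4c23b130946a123401c452f2ed5265689e4e05464aa09c6b4792450da4416cb8bf3a88cd26366224b059618f11a4f289c51c46139b514481481d606f459104a08591b92243110116a6c4811c4c035981962b704ad970055a2b804af56ae574ac55aa80200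

/-- The letters `a, t, q, r` as words in the four reflections, to be applied from left to right. -/
def refWords : List (List Nat) :=
  [
    [3, 0, 3, 2, 1, 3, 2, 0, 1, 2, 3, 2, 0, 2, 0],
    [1, 0, 3, 1, 0, 3, 2, 0, 3, 2, 1, 3, 2, 1, 3],
    [0, 1, 2, 3, 0, 2, 0, 3, 2, 1, 0],
    [0, 1, 0, 1, 0, 3, 0, 2, 0, 3, 2, 0]]

/-- The four reflections as words in the letters. -/
def backWords : List (List Nat) :=
  [
    [0, 6, 0, 0, 7, 0, 6, 0, 7],
    [0, 0, 4, 1, 1],
    [0, 0, 7, 4, 1, 7, 0, 6, 1, 7, 1],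
    [7, 0, 4, 6, 0, 4, 1, 7, 1, 6]]

end Cfsg.Agent.Lib.HJUniq
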