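import Mathlib
import Cfsg.Agent.Lib.SporJ2.Group
import Cfsg.Agent.Lib.SporJ2.Simple
import Cfsg.Agent.Lib.HJUniq.Amalgam
import Cfsg.Agent.Lib.HJUniq.ModelData

/-!
# Uniqueness of the Hall-Janko group: the presented group of index `315` is `J₂`

Owner: helper99.
-/

set_option autoImplicit false
set_option linter.style.haveILetI false
set_option maxRecDepth 8000

namespace Cfsg.Agent.Lib.HJUniq

open Cfsg.Agent.Lib.CosetEnum Cfsg.Agent.Lib.ExactCover
open Cfsg.Agent.Lib.Computation Cfsg.Agent.Lib.SporJ2

/-- The presented group on `a, t, q, r`. -/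
abbrev P315 : Type := PresentedGroup HJ315.pres

/-- The bijection. -/
noncomputable def piPerm : Equiv.Perm (Fin 315) := decodeP 315 9 piCode

theorem piCode_ok : okPerm 315 9 piCode = true := by decide +kernel

/-- Apply reflections from left to right. -/
noncomputable def appW (w : List ℕ) (x : ℕ) : ℕ :=
  w.foldl (fun x g => getW 9 (gens315.getD g 0) x) x

/-- The test that a word in the letters acts as a word in the reflections. -/
noncomputable def sameCheck (l w : List ℕ) : Bool :=
  allBelow 315 fun i => Nat.beq (getW 9 piCode (scan 8 HJ315.table l i)) (appW w (getW 9 piCode i))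

theorem gens_check :
    (List.range 4).all (fun i => (refWords.getD i []).all (fun g => Nat.blt g 4) &&
      (backWords.getD i []).all (fun g => Nat.blt g 8) &&
      sameCheck [2 * i] (refWords.getD i []) && sameCheck (backWords.getD i []) [i]) = true := by
  decide +kernel

theorem el_ev (R : List (List ℕ)) {l : List ℕ} (hl : ∀ g ∈ l, g < 8) :
    ev (lett (el (n := 4) R [0]) (el R [2]) (el R [4]) (el R [6])) l = el R l := by
  induction l with
  | nil => rw [ev_nil, el_nil]
  | cons g l ih =>
    conv_rhs => rw [el_cons]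
    rw [ev_cons, ih fun x hx => hl x (List.mem_cons_of_mem _ hx)]
    refine congrArg (· * _) ?_
    have := hl g List.mem_cons_self
    interval_cases g
    · rfl
    · exact (el_flip 0).symm
    · rfl
    · exact (el_flip 2).symm
    · rfl
    · exact (el_flip 4).symm
    · rfl
    · exact (el_flip 6).symm

theorem card_P315_le : Finite P315 ∧ Nat.card P315 ≤ 604800 := by
  have hR : ∀ x ∈ HJC1920.pres, FreeGroup.lift
      ![el (n := 4) HJ315.relWords [0], el HJ315.relWords [2], el HJ315.relWords [4]] x = 1 := by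
    intro x hx
    obtain ⟨l, hl, rfl⟩ := List.mem_map.1 hx
    show FreeGroup.lift _ (word 3 l) = 1
    have hs := relWords_small l hl
    rw [lift_word3 _ _ _ (small_iff.1 hs), ← ev_small _ _ _ (el HJ315.relWords [6]) hs,
      el_ev _ (fun g hg => by have := small_iff.1 hs g hg; omega)]
    have hmem : l ∈ HJ315.relWords :=
      (by decide +kernel : ∀ l ∈ HJC1920.relWords, l ∈ HJ315.relWords) l hl
    exact PresentedGroup.one_of_mem (List.mem_map.2 ⟨l, hmem, rfl⟩)
  haveI : Finite PC := Nat.finite_of_card_ne_zero (by rw [card_PC]; omega)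
  set σ : PC →* P315 := PresentedGroup.toGroup hR
  set S := Subgroup.closure {x : P315 | ∃ l ∈ HJ315.subWords, el (n := 4) HJ315.relWords l = x} with hS
  have hle : S ≤ σ.range := by
    rw [hS, Subgroup.closure_le]
    rintro x ⟨l, hl, rfl⟩
    simp only [HJ315.subWords, List.mem_cons, List.not_mem_nil, or_false] at hl
    rcases hl with rfl | rfl | rfl
    exacts [⟨PresentedGroup.of 0, by simp [σ]⟩, ⟨PresentedGroup.of 1, by simp [σ]⟩,
      ⟨PresentedGroup.of 2, by simp [σ]⟩]
  haveI : Finite σ.range := Finite.of_surjective _ σ.rangeRestrict_surjective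
  haveI : Finite S := Finite.of_injective _ (Subgroup.inclusion_injective hle)
  have h1 : Nat.card S ≤ 1920 := card_PC ▸
    (Subgroup.card_le_of_le hle).trans (Nat.card_le_card_of_surjective _ σ.rangeRestrict_surjective)
  have h := card_eq_of_enum HJ315.enum
  rw [subOf_eq (n := 4) (R := HJ315.relWords) (by decide)] at h
  have h2 : Nat.card P315 = Nat.card S * 315 := h
  have h3 : 0 < Nat.card S := Nat.card_pos
  exact ⟨Nat.finite_of_card_ne_zero (by omega), by omega⟩

theorem perm315_apply (g : Fin 4) (x : Fin 315) :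
    (perm315 g x : ℕ) = getW 9 (gens315.getD g 0) x := by
  refine decodeP_apply ?_ x
  rw [List.getD_eq_getElem _ _ (by rw [gens315_ok.2]; exact g.2)]
  exact List.all_eq_true.1 gens315_ok.1 _ (List.getElem_mem _)

/-- The reflection word of a word as one permutation. -/
theorem appW_perm' (w : List ℕ) (hw : ∀ g ∈ w, g < 4) :
    ∃ σ ∈ K315, ∀ x : Fin 315, ((σ x : Fin 315) : ℕ) = appW w x := by
  induction w with
  | nil => exact ⟨1, one_mem _, fun x => rfl⟩
  | cons g w ih =>
    obtain ⟨σ, hσ, e⟩ := ih fun y hy => hw y (List.mem_cons_of_mem _ hy)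
    refine ⟨σ * perm315 ⟨g, hw g List.mem_cons_self⟩, mul_mem hσ (Subgroup.subset_closure ⟨_, rfl⟩), fun x => ?_⟩
    rw [Equiv.Perm.mul_apply, e, perm315_apply]
    rfl

theorem nonempty_P315_equiv : Nonempty (P315 ≃* Cfsg.Spor.J2) := by
  obtain ⟨hfin, hle⟩ := card_P315_le
  obtain ⟨act, -⟩ := exists_act_of_enum HJ315.enum
  set ψ : P315 →* Equiv.Perm (Fin 315) := (piPerm.permCongrHom.toMonoidHom).comp act.ρ with hψ
  have hkey : ∀ l : List ℕ, (∀ g ∈ l, g < 8) → ∀ i : Fin 315,
      (((ψ (el HJ315.relWords l))⁻¹ (piPerm i) : Fin 315) : ℕ) =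
        getW 9 piCode (scan 8 HJ315.table l i) := by
    intro l hl i
    have e : (ψ (el HJ315.relWords l))⁻¹ (piPerm i) = piPerm ((act.ρ (el HJ315.relWords l))⁻¹ i) := by
      rw [hψ, MonoidHom.comp_apply, ← map_inv]
      simp [Equiv.permCongrHom]
    rw [e, piPerm, decodeP_apply piCode_ok, act.scan_eq l hl i]
  have hall : ∀ j : Fin 4, (∀ g ∈ refWords.getD j [], g < 4) ∧ (∀ g ∈ backWords.getD j [], g < 8) ∧
      sameCheck [2 * j] (refWords.getD j []) = true ∧ sameCheck (backWords.getD j []) [j] = true := by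
    intro j
    have h := List.all_eq_true.1 gens_check j (List.mem_range.2 j.2)
    simp only [Bool.and_eq_true, List.all_eq_true, Nat.blt_eq] at h
    exact ⟨h.1.1.1, h.1.1.2, h.1.2, h.2⟩
  have hsame : ∀ l w : List ℕ, (∀ g ∈ l, g < 8) → sameCheck l w = true → ∀ x : Fin 315,
      (((ψ (el HJ315.relWords l))⁻¹ x : Fin 315) : ℕ) = appW w x := by
    intro l w hl hs x
    obtain ⟨i, rfl⟩ := piPerm.surjective x
    rw [hkey l hl i, Nat.eq_of_beq_eq_true (allBelow_iff.1 hs i i.2), piPerm, decodeP_apply piCode_ok]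
  have hsub : ψ.range = K315 := by
    refine le_antisymm ?_ ?_
    · rw [MonoidHom.range_eq_map, ← PresentedGroup.closure_range_of, MonoidHom.map_closure,
        Subgroup.closure_le, ← Set.range_comp]
      rintro _ ⟨j, rfl⟩
      obtain ⟨hw, -, hs, -⟩ := hall j
      obtain ⟨σ, hσ, e⟩ := appW_perm' _ hw
      have h1 : (ψ (el HJ315.relWords [2 * j.val]))⁻¹ = σ := Equiv.ext fun x => Fin.ext (by
        rw [hsame _ _ (by simp; omega) hs x, e])
      rw [el_pos] at h1
      show ψ (PresentedGroup.of j) ∈ K315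
      rw [← inv_inv (ψ (PresentedGroup.of j)), h1]
      exact inv_mem hσ
    · rw [K315, Subgroup.closure_le]
      rintro _ ⟨j, rfl⟩
      obtain ⟨-, hl, -, hs⟩ := hall j
      refine ⟨(el HJ315.relWords (backWords.getD j []))⁻¹, Equiv.ext fun x => Fin.ext ?_⟩
      rw [map_inv, hsame _ _ hl hs x, perm315_apply]
      rfl
  haveI := hfin
  have hcard : Nat.card ψ.range = 604800 := by rw [hsub, card_K315]
  have hb : Function.Bijective ψ.rangeRestrict := (Nat.bijective_iff_surjective_and_card _).2
    ⟨ψ.rangeRestrict_surjective, by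
      have := Nat.card_le_card_of_surjective _ ψ.rangeRestrict_surjective
      omega⟩
  exact ⟨((MulEquiv.ofBijective _ hb).trans (MulEquiv.subgroupCongr hsub)).trans equiv315.symm⟩

end Cfsg.Agent.Lib.HJUniq
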