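import Mathlib
import Cfsg.Agent.Lib.HJUniq.Model

/-!
# Uniqueness of the Hall-Janko group

Owner: helper99.
-/

set_option autoImplicit false
set_option linter.style.haveILetI false

namespace Cfsg.Agent.Lib.HJUniq

open Cfsg.Agent.Lib.CosetEnum Cfsg.Agent.Lib.ExactCover Cfsg.Agent.Lib.HallJanko

variable {G : Type*} [Group G] [Finite G]

/-- A group in the Hall-Janko setting is isomorphic to `J₂`. -/
theorem isoJ2 {z : G} {Q : Subgroup G} {u : Fin 5 → G} {t₀ : G} (h0 : Setting z Q u t₀) :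
    Cfsg.Spor.IsoJ2 G := by
  obtain ⟨v, a, t, h, hc⟩ := exists_chart h0
  obtain ⟨r, hr, hR⟩ := exists_rels315 h hc
  obtain ⟨F, hF⟩ := exists_hom4 HJ315.relWords (by decide +kernel) hR
  obtain ⟨e⟩ := nonempty_P315_equiv
  haveI : IsSimpleGroup P315 :=
    e.isSimpleGroup_congr.2 Cfsg.Agent.Lib.SporJ2.isSimple_J2
  haveI : Finite P315 := card_P315_le.1
  have hker : F.ker = ⊥ := by
    refine (IsSimpleGroup.eq_bot_or_eq_top_of_normal F.ker inferInstance).resolve_right fun ht => ?_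
    have h6 : F (el HJ315.relWords [6]) = r := by
      rw [hF _ (by decide)]
      simp [ev, lett]
    have hr1 : r = 1 := h6.symm.trans (MonoidHom.mem_ker.1 (ht ▸ Subgroup.mem_top _))
    exact hr.not_mem hc (h.toFive.u_ne_z 0) (hr1 ▸ one_mem _)
  have hb : Function.Bijective F := (Nat.bijective_iff_injective_and_card F).2
    ⟨(MonoidHom.ker_eq_bot_iff F).1 hker,
      by rw [h.card_group, Nat.card_congr e.toEquiv, Cfsg.Agent.Lib.SporJ2.card_J2]⟩
  exact ⟨(MulEquiv.ofBijective F hb).symm.trans e⟩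

end Cfsg.Agent.Lib.HJUniq
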