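import Mathlib
import Cfsg.Prelude.Def_Transfer
import Cfsg.Agent.S0215
import Cfsg.Agent.Lib.HallJanko.Setup
import Cfsg.Agent.Lib.HallJanko.TSplit

/-!
# Hall-Janko type in a simple group: `z` is not weakly closed in `Q`

If `z` were alone in `Q` among its conjugates, a conjugate `w` in `C(z)` outside `Q` would have a
centraliser meeting `Q` in a four-group `⟨z, u⟩`, and in `C(w)` the involution `u` would be conjugate to `z`.

Owner: helper99.
-/

set_option autoImplicit false
set_option linter.style.haveILetI false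

namespace Cfsg.Agent.Lib.HJUniq

open Cfsg.Agent.Lib.LargeExtraspecial.Basic Cfsg.Agent.Lib.HallJanko
open Cfsg.Agent.Lib.Involutions.Basic (invol_iff orderOf_conj_eq)

variable {G : Type*} [Group G]

/-- The shape of the centraliser of `z`. -/
structure Loc (z : G) (Q : Subgroup G) : Prop where
  es : ES Q z
  card : Nat.card Q = 32
  norm : ∀ c : G, Commute c z → ∀ q ∈ Q, c * q * c⁻¹ ∈ Q
  minus : ∀ E : Subgroup G, E ≤ Q → (∀ x ∈ E, x * x = 1) → Nat.card E ≤ 4
  quot : ∃ π : Subgroup.centralizer ({z} : Set G) →* alternatingGroup (Fin 5),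
    Function.Surjective π ∧ ∀ c, π c = 1 ↔ (c : G) ∈ Q

theorem alt_five_no_four : ∀ p : alternatingGroup (Fin 5), p ^ 4 = 1 → p ^ 2 = 1 := by decide +kernel

namespace Loc

variable {z : G} {Q : Subgroup G}

theorem map (h : Loc z Q) (φ : MulAut G) : Loc (φ z) (Q.map φ.toMonoidHom) := by
  have hC : ∀ x y : G, Commute (φ x) (φ y) ↔ Commute x y := fun x y =>
    ⟨fun e => φ.injective (by rw [map_mul, map_mul]; exact e), fun e => e.map φ⟩
  refine ⟨⟨⟨z, h.es.mem, rfl⟩, fun e => h.es.ne (φ.injective (e.trans (map_one φ).symm)),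
    by rw [← map_mul, h.es.sq, map_one], ?_, ?_, ?_⟩, ?_, ?_, ?_, ?_⟩
  · rintro _ ⟨p, hp, rfl⟩
    exact (hC p z).2 (h.es.comm p hp)
  · rintro _ ⟨q, hq, rfl⟩ hc
    rcases h.es.center q hq fun p hp => (hC p q).1 (hc (φ p) ⟨p, hp, rfl⟩) with e | e
    · left; show φ q = 1; rw [e, map_one]
    · right; show φ q = φ z; rw [e]
  · rintro _ ⟨q, hq, rfl⟩ _ ⟨v, hv, rfl⟩
    rcases h.es.conj q hq v hv with e | e
    · left; show φ q * φ v * (φ q)⁻¹ = φ v; rw [← map_inv, ← map_mul, ← map_mul, e]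
    · right; show φ q * φ v * (φ q)⁻¹ = φ v * φ z; rw [← map_inv, ← map_mul, ← map_mul, e, map_mul]
  · rw [Subgroup.card_map_of_injective φ.injective, h.card]
  · intro c hc q hq
    obtain ⟨c, rfl⟩ := φ.surjective c
    obtain ⟨q, hq, rfl⟩ := hq
    exact ⟨c * q * c⁻¹, h.norm c ((hC c z).1 hc) q hq, by
      show φ (c * q * c⁻¹) = φ c * φ q * (φ c)⁻¹
      rw [map_mul, map_mul, map_inv]⟩
  · intro E hE hsq
    have h1 := h.minus (E.comap φ.toMonoidHom) (fun x hx => by
      obtain ⟨y, hy, e⟩ := hE (Subgroup.mem_comap.1 hx)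
      exact φ.injective e ▸ hy) fun x hx => φ.injective (by
        rw [map_mul, map_one]; exact hsq _ (Subgroup.mem_comap.1 hx))
    rwa [Nat.card_congr (φ.toEquiv.subtypeEquiv (p := fun x => x ∈ E.comap φ.toMonoidHom) (q := fun x => x ∈ E)
      fun x => Iff.rfl)] at h1
  · obtain ⟨π, hs, hk⟩ := h.quot
    let ψ : Subgroup.centralizer ({φ z} : Set G) →* Subgroup.centralizer ({z} : Set G) :=
      { toFun := fun c => ⟨φ.symm c, Subgroup.mem_centralizer_singleton_iff.2 (φ.injective (by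
          rw [map_mul, map_mul, φ.apply_symm_apply]
          exact Subgroup.mem_centralizer_singleton_iff.1 c.2))⟩
        map_one' := Subtype.ext (map_one φ.symm)
        map_mul' := fun a b => Subtype.ext (map_mul φ.symm _ _) }
    refine ⟨π.comp ψ, hs.comp fun c => ⟨⟨φ c, Subgroup.mem_centralizer_singleton_iff.2
      ((hC c z).2 (Subgroup.mem_centralizer_singleton_iff.1 c.2))⟩, Subtype.ext (φ.symm_apply_apply _)⟩,
      fun c => (hk (ψ c)).trans ⟨fun e => ⟨_, e, φ.apply_symm_apply _⟩, ?_⟩⟩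
    rintro ⟨y, hy, e⟩
    show φ.symm (c : G) ∈ Q
    rw [← e]
    exact (φ.symm_apply_apply y).symm ▸ hy

theorem sq_cases (h : Loc z Q) {q : G} (hq : q ∈ Q) : q * q = 1 ∨ q * q = z :=
  h.es.center _ (mul_mem hq hq) fun p hp => by
    have e : q * q * p * (q * q)⁻¹ = p := by
      rw [show q * q * p * (q * q)⁻¹ = q * (q * p * q⁻¹) * q⁻¹ by group]
      rcases h.es.conj q hq p hp with e | e
      · rw [e, e]
      · rw [e, show q * (p * z) * q⁻¹ = q * p * q⁻¹ * (q * z * q⁻¹) by group, e,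
          mul_inv_eq_iff_eq_mul.2 (show q * z = z * q from h.es.comm q hq), mul_assoc, h.es.sq, mul_one]
    exact (mul_inv_eq_iff_eq_mul.1 e).symm

/-- An involution of `C(z) ∖ Q` whose fixed points in `Q` are involutions has exactly four of them, and the
involutions of its coset are its conjugates. -/
theorem coset_conj [Finite G] (h : Loc z Q) {w : G} (hwz : Commute w z) (hw : w * w = 1)
    (hK : ∀ x ∈ Q, Commute x w → x * x = 1) :
    Nat.card (Q ⊓ Subgroup.centralizer ({w} : Set G) : Subgroup G) = 4 ∧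
      ∀ y ∈ Q, w * y * (w * y) = 1 → IsConj w (w * y) := by
  classical
  set K := Q ⊓ Subgroup.centralizer ({w} : Set G) with hKdef
  have hK4 : Nat.card K ≤ 4 := h.minus K inf_le_left fun x hx => hK x hx.1 (commute_of_mem hx.2)
  have hwi : w⁻¹ = w := inv_eq_of_mul_eq_one_right hw
  have hwQ : ∀ q ∈ Q, w * q * w ∈ Q := fun q hq => by
    have := h.norm w hwz q hq
    rwa [hwi] at this
  have hzc : ∀ q ∈ Q, z * q = q * z := fun q hq => (h.es.comm q hq).symm.eq
  have hwzw : w * z * w = z := by rw [hwz.eq, mul_assoc, hw, mul_one]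
  let P : Subgroup G :=
    { carrier := {y | y ∈ Q ∧ (w * y * w = y ∨ w * y * w = y * z)}
      one_mem' := ⟨one_mem Q, Or.inl (by rw [mul_one, hw])⟩
      mul_mem' := fun {a b} ha hb => ⟨mul_mem ha.1 hb.1, by
        have e : w * (a * b) * w = w * a * w * (w * b * w) := by
          rw [show w * a * w * (w * b * w) = w * a * (w * w) * b * w by group, hw, mul_one]; group
        rw [e]
        rcases ha.2 with e1 | e1 <;> rcases hb.2 with e2 | e2 <;> rw [e1, e2]
        · exact Or.inl rfl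
        · exact Or.inr (mul_assoc a b z).symm
        · right; rw [mul_assoc a z, hzc b hb.1, mul_assoc a b]
        · left; rw [mul_assoc a z, ← mul_assoc z b, hzc b hb.1, mul_assoc b z, h.es.sq, mul_one]⟩
      inv_mem' := fun {a} ha => ⟨inv_mem ha.1, by
        have e : w * a⁻¹ * w = (w * a * w)⁻¹ := by rw [mul_inv_rev, mul_inv_rev, hwi, mul_assoc]
        rw [e]
        rcases ha.2 with e1 | e1 <;> rw [e1]
        · exact Or.inl rfl
        · right; rw [mul_inv_rev, inv_eq_of_mul_eq_one_right h.es.sq, hzc _ (inv_mem ha.1)]⟩ }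
  have hmemK : ∀ y ∈ Q, w * y * w = y → y ∈ K := fun y hy e => ⟨hy, mem_centralizer_of_commute (by
    show y * w = w * y
    calc y * w = w * y * w * w := by rw [e]
      _ = w * y := by rw [mul_assoc, hw, mul_one])⟩
  have hP : Nat.card P ≤ 2 * Nat.card K := by
    have hsub : ∃ r, (P : Set G) ⊆ (K : Set G) ∪ (fun k => r * k) '' (K : Set G) := by
      by_cases hex : ∃ r ∈ P, w * r * w ≠ r
      · obtain ⟨r, hr, hrne⟩ := hex
        have hr' := hr.2.resolve_left hrne
        refine ⟨r, fun y hy => ?_⟩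
        by_cases hyK : w * y * w = y
        · exact Or.inl (hmemK y hy.1 hyK)
        refine Or.inr ⟨r⁻¹ * y, hmemK _ (mul_mem (inv_mem hr.1) hy.1) ?_, mul_inv_cancel_left r y⟩
        calc w * (r⁻¹ * y) * w = w * r⁻¹ * (w * w) * y * w := by rw [hw]; group
          _ = (w * r * w)⁻¹ * (w * y * w) := by
              rw [mul_inv_rev, mul_inv_rev, hwi]; group
          _ = (r * z)⁻¹ * (y * z) := by rw [hr', hy.2.resolve_left hyK]
          _ = z⁻¹ * (r⁻¹ * y * z) := by group
          _ = r⁻¹ * y := by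
              rw [← hzc _ (mul_mem (inv_mem hr.1) hy.1), inv_mul_cancel_left]
      · exact ⟨1, fun y hy => Or.inl (hmemK y hy.1 (not_not.1 fun e => hex ⟨y, hy, e⟩))⟩
    obtain ⟨r, hsub⟩ := hsub
    have h1 := (Set.ncard_le_ncard hsub (Set.toFinite _)).trans (Set.ncard_union_le _ _)
    rw [Set.ncard_image_of_injective _ (mul_right_injective r), ← Nat.card_coe_set_eq,
      ← Nat.card_coe_set_eq] at h1
    exact h1.trans (by simp [two_mul])
  have hinP : ∀ y ∈ Q, w * y * (w * y) = 1 → y ∈ P := fun y hy e => ⟨hy, by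
    have e1 : w * y * w = y⁻¹ := eq_inv_of_mul_eq_one_left (by rwa [← mul_assoc] at e)
    rw [e1]
    rcases h.sq_cases hy with e2 | e2
    · exact Or.inl (inv_eq_of_mul_eq_one_right e2)
    · right; exact inv_eq_of_mul_eq_one_right (by rw [← mul_assoc, e2, h.es.sq])⟩
  set KQ := K.subgroupOf Q with hKQ
  have hidx : Nat.card (Q ⧸ KQ) * Nat.card K = 32 := by
    rw [← Nat.card_congr (Subgroup.subgroupOfEquivOfLe (inf_le_left : K ≤ Q)).toEquiv,
      ← Subgroup.card_eq_card_quotient_mul_card_subgroup, h.card]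
  let f : Q ⧸ KQ → P := fun c => Quotient.liftOn' c
    (fun q => ⟨w * ((q : G) * w * (q : G)⁻¹), hinP _ (by
        rw [show w * ((q : G) * w * (q : G)⁻¹) = (w * q * w) * (q : G)⁻¹ by group]
        exact mul_mem (hwQ q q.2) (inv_mem q.2)) (by
        rw [← mul_assoc w w, hw, one_mul,
          show (q : G) * w * (q : G)⁻¹ * ((q : G) * w * (q : G)⁻¹) = q * (w * w) * (q : G)⁻¹ by group, hw]
        group)⟩)
    fun q q' e => Subtype.ext (by
      have h1 : Commute ((q : G)⁻¹ * q') w :=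
        commute_of_mem (Subgroup.mem_subgroupOf.1 (QuotientGroup.leftRel_apply.1 e)).2
      show w * ((q : G) * w * (q : G)⁻¹) = w * ((q' : G) * w * (q' : G)⁻¹)
      congr 1
      calc (q : G) * w * (q : G)⁻¹ = q * (((q : G)⁻¹ * q') * w * ((q : G)⁻¹ * q')⁻¹) * (q : G)⁻¹ := by
            rw [h1.eq, mul_inv_cancel_right]
        _ = _ := by group)
  have hf : Function.Injective f := by
    intro c c'
    induction c using QuotientGroup.induction_on with
    | H q =>
      induction c' using QuotientGroup.induction_on with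
      | H q' =>
        intro e
        have e1 : (q : G) * w * (q : G)⁻¹ = (q' : G) * w * (q' : G)⁻¹ := mul_left_cancel (congrArg Subtype.val e)
        refine QuotientGroup.eq.2 (Subgroup.mem_subgroupOf.2 ⟨Q.mul_mem (Q.inv_mem q.2) q'.2,
          mem_centralizer_of_commute ?_⟩)
        show (q : G)⁻¹ * q' * w = w * ((q : G)⁻¹ * q')
        calc (q : G)⁻¹ * q' * w = (q : G)⁻¹ * ((q' : G) * w * (q' : G)⁻¹) * q' := by group
          _ = _ := by rw [← e1]; group
  have hle := Nat.card_le_card_of_injective f hf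
  have hK : Nat.card K = 4 := by
    generalize Nat.card K = k at hK4 hP hidx ⊢
    generalize Nat.card (Q ⧸ KQ) = n at hidx hle
    interval_cases k <;> omega
  refine ⟨hK, fun y hy hinv => ?_⟩
  obtain ⟨c, hc⟩ := ((Nat.bijective_iff_injective_and_card f).2 ⟨hf, by
    rw [hK] at hidx hP; omega⟩).2 ⟨y, hinP y hy hinv⟩
  induction c using QuotientGroup.induction_on with
  | H q =>
    refine isConj_iff.2 ⟨q, ?_⟩
    have e : w * ((q : G) * w * (q : G)⁻¹) = y := congrArg Subtype.val hc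
    rw [← e, ← mul_assoc w w, hw, one_mul]

end Loc

/-- In a simple group with two classes of involutions `z` is not alone in `Q`. -/
theorem exists_fus [Finite G] [IsSimpleGroup G] {z : G} {Q : Subgroup G} (h : Loc z Q)
    (hself : ∀ c : G, (∀ q ∈ Q, Commute c q) → c = 1 ∨ c = z)
    (hcl : ∃ x y : G, orderOf x = 2 ∧ orderOf y = 2 ∧ ¬ IsConj x y) :
    ∃ g : G, g * z * g⁻¹ ∈ Q ∧ g * z * g⁻¹ ≠ z := by
  by_contra hno
  simp only [not_exists, not_and, not_not] at hno
  haveI : Fact (Nat.Prime 2) := ⟨Nat.prime_two⟩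
  have hzo : orderOf z = 2 := invol_iff.2 ⟨h.es.sq, h.es.ne⟩
  -- a conjugate of `z` in `C(z)`
  have hQp : IsPGroup 2 Q := IsPGroup.of_card (n := 5) (by rw [h.card]; norm_num)
  obtain ⟨P, hP⟩ := hQp.exists_le_sylow
  haveI : Nontrivial (P : Subgroup G) :=
    ⟨⟨⟨z, hP h.es.mem⟩, 1, fun e => h.es.ne (congrArg Subtype.val e)⟩⟩
  obtain ⟨n, hn1⟩ : ∃ n : Subgroup.center (P : Subgroup G), n ≠ 1 := by
    haveI := P.2.center_nontrivial
    exact exists_ne 1
  have hnz : ((n : (P : Subgroup G)) : G) = z :=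
    (hself _ fun q hq => (show Commute ((n : (P : Subgroup G)) : G) q from
      (congrArg Subtype.val (Subgroup.mem_center_iff.1 n.2 ⟨q, hP hq⟩)).symm)).resolve_left
      fun e => hn1 (Subtype.ext (Subtype.ext e))
  have hPC : ∀ x ∈ P, Commute x z := fun x hx => by
    have := congrArg Subtype.val (Subgroup.mem_center_iff.1 n.2 ⟨x, hx⟩)
    rw [Subgroup.coe_mul, Subgroup.coe_mul, hnz] at this
    exact this
  obtain ⟨g, hgP, hgz⟩ : ∃ g : G, g * z * g⁻¹ ∈ P ∧ g * z * g⁻¹ ≠ z := by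
    by_contra hiso
    simp only [not_exists, not_and, not_not] at hiso
    obtain ⟨N, hN, hodd, hc⟩ := Cfsg.Agent.S0215.result P z hzo (hP h.es.mem) hiso
    rcases IsSimpleGroup.eq_bot_or_eq_top_of_normal N hN with e | e
    · have hcen : z ∈ Subgroup.center G := Subgroup.mem_center_iff.2 fun x => by
        have h1 := hc x
        rw [e, Subgroup.mem_bot] at h1
        exact (mul_inv_eq_iff_eq_mul.1 (mul_inv_eq_one.1 h1)).symm
      have hz : Subgroup.zpowers z = ⊤ := by
        have hnorm : (Subgroup.zpowers z).Normal := ⟨fun x hx y => by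
          have := Subgroup.mem_center_iff.1 (Subgroup.zpowers_le.2 hcen hx) y
          rwa [this, mul_inv_cancel_right]⟩
        refine (IsSimpleGroup.eq_bot_or_eq_top_of_normal _ hnorm).resolve_left fun e' => h.es.ne ?_
        exact Subgroup.zpowers_eq_bot.1 e'
      have hall : ∀ a : G, orderOf a = 2 → a = z := fun a ha => by
        obtain ⟨k, rfl⟩ := Subgroup.mem_zpowers_iff.1 (hz.symm ▸ Subgroup.mem_top a)
        obtain ⟨m, rfl | rfl⟩ := Int.even_or_odd' k
        · rw [zpow_mul, zpow_two, h.es.sq, one_zpow, orderOf_one] at ha; omega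
        · rw [zpow_add, zpow_mul, zpow_two, h.es.sq, one_zpow, zpow_one, one_mul]
      obtain ⟨x, y, hx, hy, hxy⟩ := hcl
      exact hxy (hall x hx ▸ (hall y hy).symm ▸ IsConj.refl z)
    · rw [e, Subgroup.card_top] at hodd
      exact Nat.not_even_iff_odd.2 hodd (even_iff_two_dvd.2 (hzo ▸ orderOf_dvd_natCard z))
  set w := g * z * g⁻¹ with hwdef
  have hwz : Commute w z := hPC w hgP
  have hw2 : w * w = 1 := by
    rw [hwdef, show g * z * g⁻¹ * (g * z * g⁻¹) = g * (z * z) * g⁻¹ by group, h.es.sq]; group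
  have hwQ : w ∉ Q := fun e => hgz (hno g e)
  set Qw := Q.map (MulAut.conj g).toMonoidHom with hQw
  have hl : Loc w Qw := h.map (MulAut.conj g)
  have hno' : ∀ x ∈ Qw, IsConj w x → x = w := by
    rintro _ ⟨y, hy, rfl⟩ hc
    obtain ⟨k, hk⟩ := isConj_iff.1 hc
    have e : g⁻¹ * k * g * z * (g⁻¹ * k * g)⁻¹ = y := by
      have : k * w * k⁻¹ = g * y * g⁻¹ := hk
      rw [hwdef] at this
      calc g⁻¹ * k * g * z * (g⁻¹ * k * g)⁻¹ = g⁻¹ * (k * (g * z * g⁻¹) * k⁻¹) * g := by group
        _ = y := by rw [this]; group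
    have := hno _ (e.symm ▸ hy)
    rw [e] at this
    show g * y * g⁻¹ = w
    rw [this]
  have hzQw : z ∉ Qw := fun e => hgz (hno' z e (isConj_iff.2 ⟨g⁻¹, by rw [hwdef]; group⟩)).symm
  -- no elements of order four
  have hnofour : ∀ {a b : G} {A B : Subgroup G}, Loc a A → Loc b B → a ∉ B →
      ∀ x ∈ A, Commute x b → x * x = 1 := by
    intro a b A B hA hB hab x hx hxb
    refine (hA.sq_cases hx).resolve_right fun hxx => ?_
    obtain ⟨π, -, hk⟩ := hB.quot
    set X : Subgroup.centralizer ({b} : Set G) := ⟨x, mem_centralizer_of_commute hxb⟩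
    have h4 : π X ^ 4 = 1 := by
      rw [← map_pow, hk]
      show x ^ 4 ∈ B
      rw [show x ^ 4 = x * x * (x * x) by simp [pow_succ, mul_assoc], hxx, hA.es.sq]
      exact one_mem B
    have h2 := alt_five_no_four _ h4
    rw [← map_pow, hk] at h2
    refine hab ?_
    rw [← hxx, ← pow_two]
    exact h2
  obtain ⟨hK, horb⟩ := h.coset_conj hwz hw2 (hnofour h hl hzQw)
  obtain ⟨-, horb'⟩ := hl.coset_conj hwz.symm h.es.sq (hnofour hl h hwQ)
  obtain ⟨u, huK, hu1, huz⟩ : ∃ u ∈ Q ⊓ Subgroup.centralizer ({w} : Set G), u ≠ 1 ∧ u ≠ z := by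
    by_contra hu
    simp only [not_exists, not_and, not_not] at hu
    have hsub : ((Q ⊓ Subgroup.centralizer ({w} : Set G) : Subgroup G) : Set G) ⊆ ({1, z} : Set G) := by
      intro x hx
      by_cases hx1 : x = 1
      · exact Or.inl hx1
      · exact Or.inr (hu x hx hx1)
    have h1 := Set.ncard_le_ncard hsub (Set.toFinite _)
    rw [← Nat.card_coe_set_eq] at h1
    have h2 : ({1, z} : Set G).ncard ≤ 2 := (Set.ncard_insert_le _ _).trans (by rw [Set.ncard_singleton])
    have h3 : Nat.card ↥((Q ⊓ Subgroup.centralizer ({w} : Set G) : Subgroup G) : Set G) = 4 := hK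
    omega
  have huw : Commute u w := commute_of_mem huK.2
  have hu2 : u * u = 1 := hnofour h hl hzQw u huK.1 huw
  have huQw : u ∉ Qw := fun e => hu1 (by
    have h1 := horb u huK.1 (by rw [mul_assoc, ← mul_assoc u w, huw.eq, mul_assoc w u, hu2, mul_one, hw2])
    exact mul_eq_left.1 (hno' _ (mul_mem hl.es.mem e) h1))
  -- in `C(w)` the involution `u` is conjugate to `z`
  obtain ⟨π, hsur, hk⟩ := hl.quot
  set U : Subgroup.centralizer ({w} : Set G) := ⟨u, mem_centralizer_of_commute huw⟩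
  set Z : Subgroup.centralizer ({w} : Set G) := ⟨z, mem_centralizer_of_commute hwz.symm⟩
  have hinv : ∀ X : Subgroup.centralizer ({w} : Set G), (X : G) * X = 1 → (X : G) ∉ Qw →
      π X * π X = 1 ∧ π X ≠ 1 := fun X h1 h2 =>
    ⟨by rw [← map_mul, show X * X = 1 from Subtype.ext h1, map_one], fun e => h2 ((hk X).1 e)⟩
  obtain ⟨hU1, hU2⟩ := hinv U hu2 huQw
  obtain ⟨hZ1, hZ2⟩ := hinv Z h.es.sq hzQw
  obtain ⟨σ, hσ⟩ := isConj_iff.1 (invol_conj_alt (MulEquiv.refl _) hU1 hU2 hZ1 hZ2)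
  obtain ⟨c, rfl⟩ := hsur σ
  have hy : z * ((c : G) * u * (c : G)⁻¹) ∈ Qw := by
    refine (hk (Z * (c * U * c⁻¹))).1 ?_
    rw [map_mul, map_mul, map_mul, map_inv, hσ, hZ1]
  have hconj : IsConj z ((c : G) * u * (c : G)⁻¹) := by
    have h1 := horb' _ hy (by
      rw [← mul_assoc z z, h.es.sq, one_mul,
        show (c : G) * u * (c : G)⁻¹ * ((c : G) * u * (c : G)⁻¹) = c * (u * u) * (c : G)⁻¹ by group, hu2]
      group)
    rwa [← mul_assoc z z, h.es.sq, one_mul] at h1
  obtain ⟨k, hk'⟩ := isConj_iff.1 (hconj.trans (isConj_iff.2 ⟨(c : G)⁻¹, by group⟩) : IsConj z u)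
  exact huz (hk' ▸ hno k (hk'.symm ▸ huK.1))

/-- The base of the setting from the hypotheses of S1665. -/
theorem exists_setting_of_simple [Finite G] [IsSimpleGroup G] (z : G) (hz : orderOf z = 2)
    (Q : Subgroup (Subgroup.centralizer ({z} : Set G))) [Q.Normal] (hQ : Cfsg.IsExtraspecial 2 Q)
    (hcard : Nat.card Q = 32) (hminus : ∀ E : Subgroup Q, Cfsg.IsElementaryAbelian 2 E → Nat.card E ≤ 2 ^ 2)
    (h2c : Subgroup.centralizer (Q : Set (Subgroup.centralizer ({z} : Set G))) ≤ Q)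
    (e : (Subgroup.centralizer ({z} : Set G)) ⧸ Q ≃* alternatingGroup (Fin 5))
    (hcl : ∃ x y : G, orderOf x = 2 ∧ orderOf y = 2 ∧ ¬ IsConj x y) :
    ∃ (Q' : Subgroup G) (u : Fin 5 → G) (t : G), Setting z Q' u t := by
  haveI : Fact (Nat.Prime 2) := ⟨Nat.prime_two⟩
  set Q' := Q.map (Subgroup.centralizer ({z} : Set G)).subtype with hQ'
  have hQC : Q' ≤ (Subgroup.centralizer ({z} : Set G)) := Subgroup.map_subtype_le _
  have hzC : z ∈ (Subgroup.centralizer ({z} : Set G)) := Subgroup.mem_centralizer_singleton_iff.2 rfl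
  have hzQ : (⟨z, hzC⟩ : (Subgroup.centralizer ({z} : Set G))) ∈ Q := h2c (Subgroup.mem_centralizer_iff.2 fun q _ =>
    Subtype.ext (Subgroup.mem_centralizer_singleton_iff.1 q.2))
  have hEs : Cfsg.IsExtraspecial 2 Q' :=
    Cfsg.Agent.Lib.FusionP3.GenExtra.isExtraspecial_congr (Q.equivMapOfInjective _ (Subgroup.centralizer ({z} : Set G)).subtype_injective) hQ
  have hcen : (Subgroup.center ↥Q').map Q'.subtype = Subgroup.zpowers z := by
    refine (Subgroup.eq_of_le_of_card_ge (Subgroup.zpowers_le.2 ?_) ?_).symm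
    · exact Cfsg.Agent.Lib.LargeExtra.Basic.mem_centerMap.2 ⟨⟨_, hzQ, rfl⟩, fun y hy =>
        Subgroup.mem_centralizer_singleton_iff.1 (hQC hy)⟩
    · rw [Cfsg.Agent.Lib.LargeExtra.Basic.card_centerMap hEs, Nat.card_zpowers, hz]
  have hes := (Cfsg.Agent.Lib.LargeExtra.TwoConjugate.es_of hEs hcen).1
  have hcard' : Nat.card Q' = 32 := by
    rw [hQ', Subgroup.card_map_of_injective (Subgroup.centralizer ({z} : Set G)).subtype_injective, hcard]
  have hnorm : ∀ c : G, Commute c z → ∀ q ∈ Q', c * q * c⁻¹ ∈ Q' := by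
    rintro c hc q ⟨q', hq', rfl⟩
    exact ⟨⟨c, Subgroup.mem_centralizer_singleton_iff.2 hc⟩ * q' *
      ⟨c, Subgroup.mem_centralizer_singleton_iff.2 hc⟩⁻¹, Subgroup.Normal.conj_mem inferInstance q' hq' _, rfl⟩
  have hself : ∀ c : G, (∀ q ∈ Q', Commute c q) → c = 1 ∨ c = z := by
    intro c hc
    have hcC : c ∈ (Subgroup.centralizer ({z} : Set G)) := Subgroup.mem_centralizer_singleton_iff.2 (hc z ⟨_, hzQ, rfl⟩).eq
    have h1 : (⟨c, hcC⟩ : (Subgroup.centralizer ({z} : Set G))) ∈ Q := h2c (Subgroup.mem_centralizer_iff.2 fun q hq =>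
      Subtype.ext (hc q ⟨q, hq, rfl⟩).eq.symm)
    exact hes.center c ⟨_, h1, rfl⟩ fun p hp => (hc p hp).symm
  have hloc : Loc z Q' := by
    refine ⟨hes, hcard', hnorm, fun E hE hsq => ?_, e.toMonoidHom.comp (QuotientGroup.mk' Q),
      e.surjective.comp (QuotientGroup.mk'_surjective Q), fun c => ?_⟩
    · let j : Q →* G := (Subgroup.centralizer ({z} : Set G)).subtype.comp Q.subtype
      have hj : Function.Injective j := (Subgroup.centralizer ({z} : Set G)).subtype_injective.comp Q.subtype_injective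
      have hcomm : ∀ a b : Q, a * a = 1 → b * b = 1 → a * b * (a * b) = 1 → a * b = b * a := fun a b ha hb hab => by
        rw [← inv_eq_of_mul_eq_one_right hab, mul_inv_rev, inv_eq_of_mul_eq_one_right ha,
          inv_eq_of_mul_eq_one_right hb]
      have hEsq : ∀ a : Q, a ∈ E.comap j → a * a = 1 := fun a ha => hj (by
        rw [map_mul, map_one]; exact hsq _ ha)
      have h4 := hminus (E.comap j) ⟨⟨⟨fun a b => Subtype.ext (hcomm a b (hEsq a a.2) (hEsq b b.2)
        (hEsq _ (mul_mem a.2 b.2)))⟩⟩, fun a ha => by rw [pow_two]; exact hEsq a ha⟩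
      have hle : E ≤ j.range := fun x hx => by
        obtain ⟨y, hy, rfl⟩ := hE hx
        exact ⟨⟨y, hy⟩, rfl⟩
      rwa [← Subgroup.card_map_of_injective hj, Subgroup.map_comap_eq, inf_eq_right.2 hle,
        show (2 : ℕ) ^ 2 = 4 from rfl] at h4
    · show e (QuotientGroup.mk' Q c) = 1 ↔ _
      rw [e.map_eq_one_iff, QuotientGroup.mk'_apply, QuotientGroup.eq_one_iff]
      exact ⟨fun hc => ⟨c, hc, rfl⟩, fun ⟨c', hc', hcc⟩ => (Subgroup.centralizer ({z} : Set G)).subtype_injective hcc ▸ hc'⟩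
  have hb : Base z Q' := ⟨hz, hes, hcard', by
      rw [← Subgroup.card_mul_index Q, Subgroup.index_eq_card, Nat.card_congr e.toEquiv, hcard,
        Nat.card_eq_fintype_card]
      rfl, hnorm, hself, exists_fus hloc hself hcl⟩
  obtain ⟨u, hu⟩ := hb.exists_five
  obtain ⟨t, ht⟩ := hu.exists_setting hcl
  exact ⟨Q', u, t, ht⟩

end Cfsg.Agent.Lib.HJUniq
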